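import Cfsg.Agent.Lib.FGS.SelfNormSimple.Points

/-!
Counting involution pairs: `B` is elementary abelian of order `p + 1` and the index of `N` is
`p + 2`.
-/

set_option autoImplicit false
set_option linter.unusedSectionVars false
set_option linter.style.haveILetI false

namespace CfsgLib.FGS.SelfNormSimple

open Subgroup

/-- The final arithmetic. -/
theorem arith_b {p a c b : ℕ} (ha : 4 ≤ a) (hb : 1 ≤ b) (hbc : p * b ≤ c)
    (h : 2 * (p * b) * c * (a - 1) < p * a * (p * b + c)) : b = 1 := by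
  by_contra hb1
  have hb2 : 2 ≤ b := by omega
  have h1 : p * a * (p * b + c) ≤ p * a * (2 * c) := Nat.mul_le_mul_left _ (by omega)
  have h2 : (p * c) * (b * (a - 1)) < (p * c) * a := by nlinarith
  have h3 : b * (a - 1) < a := Nat.lt_of_mul_lt_mul_left h2
  have h4 : 2 * (a - 1) ≤ b * (a - 1) := Nat.mul_le_mul_right _ hb2
  omega

namespace Setup

variable {G : Type*} [Group G] [Finite G] [IsSimpleGroup G] (L : Setup G)
  (hna : ¬ IsMulCommutative G) (hS : SN G)

theorem smul_mk_eq_iff {y a : G} :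
    y • (QuotientGroup.mk a : G ⧸ L.N) = QuotientGroup.mk a ↔ a⁻¹ * y * a ∈ L.N := by
  rw [MulAction.Quotient.smul_mk, QuotientGroup.eq, smul_eq_mul]
  constructor <;> intro h
  · have := inv_mem h
    rwa [show ((y * a)⁻¹ * a)⁻¹ = a⁻¹ * y * a by group] at this
  · have := inv_mem h
    rwa [show (a⁻¹ * y * a)⁻¹ = (y * a)⁻¹ * a by group] at this

theorem mem_D_iff_fix {t n : G} (ht : orderOf t = 2) :
    n ∈ L.D t ↔ n ∈ L.N ∧ n • (QuotientGroup.mk t : G ⧸ L.N) = QuotientGroup.mk t := by
  rw [L.smul_mk_eq_iff, L.mem_D, L.inv_eq_self ht]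

include L hna hS in
/-- The number of fixed cosets of an element of order `p`. -/
theorem card_fixed {u y : G} (hu : orderOf u = 2) (huN : u ∉ L.N) (hy : y ∈ L.D u) (hy1 : y ≠ 1) :
    Nat.card {w : G ⧸ L.N // y • w = w} * L.p = 2 * Nat.card (centralizer ({y} : Set G)) := by
  obtain ⟨hCc, hCC, hinv, -, -, hcardN, hNC⟩ :=
    L.real_centralizer hna hS hu (L.free_D hna huN hy hy1) (L.D_inverted hna hu huN hy)
  set C := centralizer ({y} : Set G) with hC
  have hyC : y ∈ C := mem_centralizer_singleton_iff.2 rfl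
  have hDC : L.D u ≤ C := fun d hd =>
    mem_centralizer_singleton_iff.2 (L.D_comm hna hu huN d hd y hy)
  let o : G ⧸ L.N := QuotientGroup.mk (1 : G)
  let M : Subgroup G := normalizer (C : Set G)
  have hset : {w : G ⧸ L.N | y • w = w} = MulAction.orbit M o := by
    ext w
    obtain ⟨g, rfl⟩ := QuotientGroup.mk_surjective w
    rw [Set.mem_ofPred_eq, L.smul_mk_eq_iff]
    constructor
    · intro hgy
      have hgB : g⁻¹ * y * g ∉ L.B := by
        intro h
        have h1 := L.coprime_of_mem h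
        rw [show g⁻¹ * y * g = g⁻¹ * y * g⁻¹⁻¹ by rw [inv_inv], orderOf_conj_eq,
          L.orderOf_D huN hy hy1, Nat.coprime_self] at h1
        exact L.hp.ne_one h1
      obtain ⟨b, hb, d, hd, hd1, e⟩ := L.exists_conj_D hna hu huN hgy hgB
      have hk : g * b * d * (g * b)⁻¹ = y := by
        calc g * b * d * (g * b)⁻¹ = g * (b * d * b⁻¹) * g⁻¹ := by group
          _ = g * (g⁻¹ * y * g) * g⁻¹ := by rw [← e]
          _ = y := by group
      refine ⟨⟨g * b, hCC.mem_normalizer (hDC hd) hd1 (by rw [hk]; exact hyC)⟩, ?_⟩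
      show (g * b) • (QuotientGroup.mk (1 : G) : G ⧸ L.N) = QuotientGroup.mk g
      rw [MulAction.Quotient.smul_mk, smul_eq_mul, mul_one, QuotientGroup.eq,
        show (g * b)⁻¹ * g = b⁻¹ by group]
      exact L.B_le (inv_mem hb)
    · rintro ⟨⟨n, hn⟩, e⟩
      have e' : (n * 1)⁻¹ * g ∈ L.N := QuotientGroup.eq.1 e
      rw [mul_one] at e'
      have hny : n⁻¹ * y * n ∈ L.N := by
        have h1 : n⁻¹ * y * n⁻¹⁻¹ ∈ C :=
          (Subgroup.mem_normalizer_iff.1 (inv_mem hn) y).1 hyC
        rw [inv_inv] at h1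
        rcases hNC n hn with h | h
        · rw [show n⁻¹ * y * n = y by
            rw [mul_assoc, hCc y hyC n h, inv_mul_cancel_left]]
          exact hy.1
        · have hny : n⁻¹ * y * n = y⁻¹ := by
            calc n⁻¹ * y * n = (u⁻¹ * n)⁻¹ * (u⁻¹ * y * u) * (u⁻¹ * n) := by group
              _ = (u⁻¹ * n)⁻¹ * y⁻¹ * (u⁻¹ * n) := by
                rw [show u⁻¹ * y * u = u * y * u⁻¹ by rw [L.inv_eq_self hu], hinv y hyC]
              _ = (u⁻¹ * n)⁻¹ * ((u⁻¹ * n) * y⁻¹) := by
                rw [mul_assoc, hCc _ (inv_mem hyC) _ h]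
              _ = y⁻¹ := by group
          rw [hny]
          exact inv_mem hy.1
      have := mul_mem (mul_mem (inv_mem e') hny) e'
      rwa [show (n⁻¹ * g)⁻¹ * (n⁻¹ * y * n) * (n⁻¹ * g) = g⁻¹ * y * g by group] at this
  have hstab : MulAction.stabilizer M o = (L.D u).subgroupOf M := by
    ext ⟨n, hn⟩
    rw [MulAction.mem_stabilizer_iff, mem_subgroupOf]
    show n • (QuotientGroup.mk (1 : G) : G ⧸ L.N) = QuotientGroup.mk (1 : G) ↔ n ∈ L.D u
    rw [L.smul_mk_eq_iff, inv_one, one_mul, mul_one]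
    refine ⟨fun hnN => ?_, fun h => h.1⟩
    have hBC : ∀ b ∈ L.B, b ∈ C → b = 1 := by
      intro b hb hbC
      by_contra hb1
      exact L.not_mem_B huN hy hy1 (L.mem_B_of_commute hb hb1
        (mem_centralizer_singleton_iff.1 hbC).symm)
    by_cases hnB : n ∈ L.B
    · rcases hNC n hn with h | h
      · rw [hBC n hnB h]; exact one_mem _
      · exfalso
        have hny : n * y * n⁻¹ = y⁻¹ := by
          calc n * y * n⁻¹ = u * ((u⁻¹ * n) * y) * (u⁻¹ * n)⁻¹ * u⁻¹ := by group
            _ = u * (y * (u⁻¹ * n)) * (u⁻¹ * n)⁻¹ * u⁻¹ := by rw [hCc _ h y hyC]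
            _ = u * y * u⁻¹ := by group
            _ = y⁻¹ := hinv y hyC
        have h1 : y * n * y⁻¹ * n⁻¹ ∈ L.B := mul_mem (L.conj_mem hy.1 hnB) (inv_mem hnB)
        have h2 : y * n * y⁻¹ * n⁻¹ = y * y := by
          rw [show y * n * y⁻¹ * n⁻¹ = y * (n * y * n⁻¹)⁻¹ by group, hny, inv_inv]
        rw [h2] at h1
        have hyy := L.D_eq_one huN (mul_mem hy hy) h1
        have := L.orderOf_D huN hy hy1
        rw [orderOf_eq_prime (p := 2) (by rw [sq, hyy]) hy1] at this
        exact L.p_ne_two this.symm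
    · obtain ⟨b, hb, d, hd, hd1, e⟩ := L.exists_conj_D hna hu huN hnN hnB
      subst e
      rcases hNC _ hn with h | h
      · have hbd : Commute (b * d * b⁻¹) y := mem_centralizer_singleton_iff.1 h
        have hb1 : b ∈ C := by
          have hdC := hDC hd
          have hbn : b ∈ normalizer (C : Set G) := hCC.mem_normalizer hdC hd1 h
          rcases hNC b hbn with hh | hh
          · exact hh
          · exfalso
            have hdd : b * d * b⁻¹ = d⁻¹ := by
              calc b * d * b⁻¹ = u * ((u⁻¹ * b) * d) * (u⁻¹ * b)⁻¹ * u⁻¹ := by group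
                _ = u * (d * (u⁻¹ * b)) * (u⁻¹ * b)⁻¹ * u⁻¹ := by rw [hCc _ hh d hdC]
                _ = u * d * u⁻¹ := by group
                _ = d⁻¹ := hinv d hdC
            have h1 : d * b * d⁻¹ * b⁻¹ ∈ L.B := mul_mem (L.conj_mem hd.1 hb) (inv_mem hb)
            rw [show d * b * d⁻¹ * b⁻¹ = d * (b * d * b⁻¹)⁻¹ by group, hdd, inv_inv] at h1
            have hdd' := L.D_eq_one huN (mul_mem hd hd) h1
            have := L.orderOf_D huN hd hd1
            rw [orderOf_eq_prime (p := 2) (by rw [sq, hdd']) hd1] at this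
            exact L.p_ne_two this.symm
        rw [hBC b hb hb1, one_mul, inv_one, mul_one]
        exact hd
      · exfalso
        have hw : b * d * b⁻¹ ≠ 1 := fun e => hd1 (conj_eq_one_iff.1 e)
        set w := b * d * b⁻¹ with hwdef
        have hwy : w * y * w⁻¹ = y⁻¹ := by
          calc w * y * w⁻¹ = u * ((u⁻¹ * w) * y) * (u⁻¹ * w)⁻¹ * u⁻¹ := by group
            _ = u * (y * (u⁻¹ * w)) * (u⁻¹ * w)⁻¹ * u⁻¹ := by rw [hCc _ h y hyC]
            _ = u * y * u⁻¹ := by group
            _ = y⁻¹ := hinv y hyC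
        have hwo : orderOf w = L.p := by rw [hwdef, orderOf_conj_eq, L.orderOf_D huN hd hd1]
        have hw2 : Commute (w ^ 2) y := by
          show w ^ 2 * y = y * w ^ 2
          have h2 : w * (w * y * w⁻¹) * w⁻¹ = y := by
            rw [hwy, show w * y⁻¹ * w⁻¹ = (w * y * w⁻¹)⁻¹ by group, hwy, inv_inv]
          calc w ^ 2 * y = w * (w * y * w⁻¹) * w⁻¹ * w ^ 2 := by rw [sq]; group
            _ = _ := by rw [h2]
        obtain ⟨j, hj⟩ := exists_pow_eq_self_of_coprime (x := w) (n := 2)
          (by rw [hwo]; exact (Nat.coprime_primes Nat.prime_two L.hp).2 (Ne.symm L.p_ne_two))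
        have hc : Commute w y := hj ▸ hw2.pow_left j
        rw [hc.eq, mul_inv_cancel_right] at hwy
        have := L.orderOf_D huN hy hy1
        rw [orderOf_eq_prime (p := 2) (by rw [sq, mul_eq_one_iff_eq_inv, ← hwy]) hy1] at this
        exact L.p_ne_two this.symm
  have h1 : Nat.card (MulAction.orbit M o) * Nat.card (MulAction.stabilizer M o) = Nat.card M := by
    rw [Nat.card_congr (MulAction.orbitEquivQuotientStabilizer M o), ← index_eq_card,
      index_mul_card]
  have hDM : L.D u ≤ M := fun d hd => le_normalizer (hDC hd)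
  rw [hstab, Nat.card_congr (subgroupOfEquivOfLe hDM).toEquiv, L.card_D hna hu huN,
    show Nat.card M = 2 * Nat.card C from hcardN] at h1
  rw [← h1]
  congr 1
  exact Nat.card_congr (Equiv.setCongr hset)

include L hna in
/-- The index of `N` in terms of fixed cosets. -/
theorem index_eq {u y : G} (hu : orderOf u = 2) (huN : u ∉ L.N) (hy : y ∈ L.D u) (hy1 : y ≠ 1) :
    L.N.index = 1 + Nat.card L.B * (Nat.card {w : G ⧸ L.N // y • w = w} - 1) := by
  classical
  haveI := Fintype.ofFinite G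
  haveI := Fintype.ofFinite (G ⧸ L.N)
  let o : G ⧸ L.N := QuotientGroup.mk (1 : G)
  let F : Finset (G ⧸ L.N) := {w : G ⧸ L.N | y • w = w ∧ w ≠ o}
  let X : Finset (G ⧸ L.N) := Finset.univ.erase o
  let Bs : Finset G := {b : G | b ∈ L.B}
  have ho : y • o = o := (L.smul_mk_eq_iff).2 (by simpa using hy.1)
  have hF : F.card = Nat.card {w : G ⧸ L.N // y • w = w} - 1 := by
    rw [Nat.card_eq_fintype_card, Fintype.card_subtype, ← Finset.card_erase_of_mem
      (show o ∈ ({w : G ⧸ L.N | y • w = w} : Finset (G ⧸ L.N)) by simp [ho])]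
    congr 1
    ext w
    simp [F, and_comm]
  have hB : Bs.card = Nat.card L.B := by
    rw [Nat.card_eq_fintype_card]
    exact (Fintype.card_of_subtype _ (by simp [Bs])).symm
  have key : (Bs ×ˢ F).card = X.card := by
    refine Finset.card_bij (fun pr _ => pr.1 • pr.2) ?_ ?_ ?_
    · rintro ⟨b, w⟩ h
      simp only [Bs, F, Finset.mem_product, Finset.mem_filter_univ] at h
      refine Finset.mem_erase.2 ⟨fun e => h.2.2 ?_, Finset.mem_univ _⟩
      have : w = b⁻¹ • o := by rw [← e, inv_smul_smul]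
      rw [this]
      show (QuotientGroup.mk (b⁻¹ * 1) : G ⧸ L.N) = QuotientGroup.mk 1
      rw [QuotientGroup.eq]
      simpa using L.B_le h.1
    · rintro ⟨b, w⟩ h ⟨b', w'⟩ h' e
      simp only [Bs, F, Finset.mem_product, Finset.mem_filter_univ] at h h'
      simp only at e
      set c := b'⁻¹ * b with hc
      have hcB : c ∈ L.B := mul_mem (inv_mem h'.1) h.1
      have hcw : c • w = w' := by rw [hc, mul_smul, e, inv_smul_smul]
      obtain ⟨g, hg⟩ := QuotientGroup.mk_surjective w
      have hgN : g ∉ L.N := fun hg' => h.2.2 (by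
        rw [← hg]
        exact QuotientGroup.eq.2 (by rw [mul_one]; exact inv_mem hg'))
      obtain ⟨t, ht, htN, hgt⟩ := L.exists_involution_coset hna hgN
      have hwt : w = QuotientGroup.mk t := by rw [← hg]; exact QuotientGroup.eq.2 hgt
      have hyt : y ∈ L.D t := (L.mem_D_iff_fix ht).2 ⟨hy.1, hwt ▸ h.2.1⟩
      have hyc : c⁻¹ * y * c ∈ L.D t := by
        refine (L.mem_D_iff_fix ht).2
          ⟨mul_mem (mul_mem (inv_mem (L.B_le hcB)) hy.1) (L.B_le hcB), ?_⟩
        rw [← hwt, mul_smul, mul_smul, hcw, h'.2.1, ← hcw, inv_smul_smul]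
      have hDD : L.D t = L.D u := by
        rw [L.D_eq_zpowers hna ht htN hyt hy1, L.D_eq_zpowers hna hu huN hy hy1]
      rw [hDD] at hyc
      have h1 : c⁻¹ * y * c * y⁻¹ ∈ L.B := by
        rw [show c⁻¹ * y * c * y⁻¹ = c⁻¹ * (y * c * y⁻¹) by group]
        exact mul_mem (inv_mem hcB) (L.conj_mem hy.1 hcB)
      have h2 := L.D_eq_one huN (mul_mem hyc (inv_mem hy)) h1
      have hc1 : c = 1 := by
        by_contra hc1
        refine L.not_mem_B huN hy hy1 (L.mem_B_of_commute hcB hc1 ?_)
        rw [mul_inv_eq_one] at h2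
        conv_rhs => rw [← h2]
        group
      have hbb : b = b' := (inv_mul_eq_one.1 hc1).symm
      subst hbb
      rw [Prod.mk.injEq]
      exact ⟨rfl, smul_left_cancel b e⟩
    · intro w hw
      obtain ⟨g, rfl⟩ := QuotientGroup.mk_surjective w
      have hgN : g ∉ L.N := fun hg' => (Finset.mem_erase.1 hw).1
        (QuotientGroup.eq.2 (by rw [mul_one]; exact inv_mem hg'))
      obtain ⟨t, ht, htN, hgt⟩ := L.exists_involution_coset hna hgN
      rw [show (QuotientGroup.mk g : G ⧸ L.N) = QuotientGroup.mk t from QuotientGroup.eq.2 hgt]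
      obtain ⟨d, hd, hd1⟩ := L.exists_D hna ht htN
      obtain ⟨b, hb, e, he, he1, hde⟩ :=
        L.exists_conj_D hna hu huN hd.1 (L.not_mem_B htN hd hd1)
      have hfix : e • (b⁻¹ • (QuotientGroup.mk t : G ⧸ L.N)) = b⁻¹ • QuotientGroup.mk t := by
        rw [← mul_smul, show e * b⁻¹ = b⁻¹ * d by rw [hde]; group, mul_smul,
          ((L.mem_D_iff_fix ht).1 hd).2]
      refine ⟨(b, b⁻¹ • QuotientGroup.mk t), ?_, smul_inv_smul b _⟩
      simp only [Bs, F, Finset.mem_product, Finset.mem_filter_univ]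
      refine ⟨hb, ?_, fun h => htN ?_⟩
      · have hyz : y ∈ zpowers e := by rw [← L.D_eq_zpowers hna hu huN he he1]; exact hy
        have hle : zpowers e ≤ MulAction.stabilizer G (b⁻¹ • (QuotientGroup.mk t : G ⧸ L.N)) :=
          zpowers_le.2 hfix
        exact hle hyz
      · rw [inv_smul_eq_iff] at h
        have h' : (QuotientGroup.mk t : G ⧸ L.N) = QuotientGroup.mk (b * 1) := h
        have h'' := QuotientGroup.eq.1 h'.symm
        rw [mul_one] at h''
        have := mul_mem (L.B_le hb) h''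
        rwa [mul_inv_cancel_left] at this
  rw [Finset.card_product, hB, hF, Finset.card_erase_of_mem (Finset.mem_univ _), Finset.card_univ,
    ← Nat.card_eq_fintype_card, ← index_eq_card] at key
  have : 1 ≤ L.N.index := Nat.one_le_iff_ne_zero.2 index_ne_zero_of_finite
  omega

/-- The commuting involutions of a fixed involution. -/
theorem card_commuting [Fintype G] [DecidableEq G] (hna : ¬ IsMulCommutative G) {i : G}
    (hi : orderOf i = 2) [DecidablePred fun j : G => orderOf j = 2 ∧ Commute i j] :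
    ({j : G | orderOf j = 2 ∧ Commute i j} : Finset G).card = L.p := by
  classical
  obtain ⟨t, htB, ht⟩ := L.exists_involution
  obtain ⟨c, hc⟩ := isConj_iff.1 (L.isConj_involutions hna ht hi)
  rw [← L.card_involutions_B hna, Nat.card_eq_fintype_card, Fintype.card_subtype]
  refine Finset.card_bij (fun j _ => c⁻¹ * j * c) ?_ ?_ ?_
  · intro j hj
    simp only [Finset.mem_filter_univ] at hj ⊢
    refine ⟨by rw [show c⁻¹ * j * c = c⁻¹ * j * c⁻¹⁻¹ by rw [inv_inv], orderOf_conj_eq, hj.1],
      L.mem_B_of_commute htB (fun h => by simp [h] at ht) ?_⟩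
    have h := commute_conj c⁻¹ hj.2.symm
    rw [inv_inv, ← hc, show c⁻¹ * (c * t * c⁻¹) * c = t by group] at h
    exact h.eq
  · intro a _ b _ e
    exact mul_left_cancel (mul_right_cancel e)
  · intro s hs
    simp only [Finset.mem_filter_univ] at hs
    refine ⟨c * s * c⁻¹, ?_, by group⟩
    simp only [Finset.mem_filter_univ]
    exact ⟨by rw [orderOf_conj_eq, hs.1], hc ▸ commute_conj c (L.B_comm t htB s hs.2)⟩

set_option maxHeartbeats 1600000 in
include L hna hS in
/-- The main count. -/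
theorem main_count : Nat.card L.B = L.p + 1 ∧ L.N.index = L.p + 2 := by
  classical
  haveI := Fintype.ofFinite G
  obtain ⟨u, hu, huN⟩ := L.exists_involution_not_mem hna
  obtain ⟨y, hy, hy1⟩ := L.exists_D hna hu huN
  have hyf : Free y := L.free_D hna huN hy hy1
  have hyi := L.D_inverted hna hu huN hy
  obtain ⟨hCc, hCC, -, -, hCodd, hCN, -⟩ := L.real_centralizer hna hS hu hyf hyi
  have hfix := L.card_fixed hna hS hu huN hy hy1
  have hidx := L.index_eq hna hu huN hy hy1
  set C := centralizer ({y} : Set G) with hCdef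
  have hyC : y ∈ C := mem_centralizer_singleton_iff.2 rfl
  obtain ⟨b, hb⟩ : L.p ∣ Nat.card C := by
    have h := orderOf_dvd_natCard (⟨y, hyC⟩ : C)
    rwa [Subgroup.orderOf_mk, L.orderOf_D huN hy hy1] at h
  have hp3 : 3 ≤ L.p := by
    have := L.hp.two_le
    have := L.p_ne_two
    omega
  have hb1 : 1 ≤ b := by
    rcases Nat.eq_zero_or_pos b with rfl | h
    · exact absurd hb (by simp)
    · exact h
  have hfixb : Nat.card {w : G ⧸ L.N // y • w = w} = 2 * b := by
    rw [hb, show 2 * (L.p * b) = 2 * b * L.p by ring] at hfix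
    exact Nat.eq_of_mul_eq_mul_right L.hp.pos hfix
  rw [hfixb] at hidx
  set a := Nat.card L.B with hadef
  -- involutions in `B`
  have hap : L.p + 1 ≤ a := by
    rw [hadef, ← L.card_involutions_B hna, Nat.card_eq_fintype_card, Nat.card_eq_fintype_card,
      Fintype.card_subtype, Fintype.card_subtype]
    refine Nat.succ_le_of_lt (Finset.card_lt_card ((Finset.ssubset_iff_of_subset ?_).2
      ⟨1, by simp [one_mem], by simp⟩))
    intro t
    simp
  set g := Nat.card G with hgdef
  have hg : g = L.N.index * (L.p * a) := L.card_G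
  set v := L.N.index with hvdef
  -- the set of real free elements
  let R : Finset G := {z : G | Free z ∧ ∃ t : G, orderOf t = 2 ∧ t * z * t⁻¹ = z⁻¹}
  let P : Finset (G × G) :=
    {pr : G × G | orderOf pr.1 = 2 ∧ orderOf pr.2 = 2 ∧ ¬ Commute pr.1 pr.2}
  have hI : ({i : G | orderOf i = 2} : Finset G).card = v * L.p := by
    rw [hvdef, ← L.card_involutions hna, Nat.card_eq_fintype_card, Fintype.card_subtype]
  have hP : P.card = v * L.p * (v * L.p - L.p) := by
    have h1 : P.card = ∑ i ∈ ({i : G | orderOf i = 2} : Finset G),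
        (P.filter fun pr => pr.1 = i).card := Finset.card_eq_sum_card_fiberwise (fun pr hpr => by
      simp only [P, Finset.coe_filter, Finset.mem_univ, true_and, Set.mem_ofPred_eq] at hpr
      simp [hpr.1])
    rw [h1, ← hI, ← smul_eq_mul, ← Finset.sum_const]
    refine Finset.sum_congr rfl fun i hi => ?_
    simp only [Finset.mem_filter_univ] at hi
    have h2 := L.card_commuting hna (i := i) hi
    have h3 : (P.filter fun pr => pr.1 = i).card =
        ({j : G | orderOf j = 2 ∧ ¬ Commute i j} : Finset G).card := by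
      refine Finset.card_bij (fun pr _ => pr.2) ?_ ?_ ?_
      · rintro ⟨i', j⟩ h
        simp only [P, Finset.mem_filter, Finset.mem_univ, true_and] at h
        obtain ⟨⟨-, hj, hc⟩, rfl⟩ := h
        simp [hj, hc]
      · rintro ⟨i', j⟩ h ⟨i'', j'⟩ h' rfl
        simp only [P, Finset.mem_filter, Finset.mem_univ, true_and] at h h'
        rw [h.2, h'.2]
      · intro j hj
        simp only [Finset.mem_filter_univ] at hj
        exact ⟨(i, j), by simp [P, hi, hj], rfl⟩
    rw [h3]
    have h4 := Finset.card_filter_add_card_filter_not (s := ({i : G | orderOf i = 2} : Finset G))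
      (fun j => Commute i j)
    rw [Finset.filter_filter, Finset.filter_filter, h2, hI] at h4
    rw [hI]
    omega
  have hsum : ∑ z ∈ R, Nat.card (centralizer ({z} : Set G)) = P.card := by
    rw [Finset.card_eq_sum_card_fiberwise (f := fun pr : G × G => pr.1 * pr.2) (t := R)]
    · refine Finset.sum_congr rfl fun z hz => ?_
      simp only [R, Finset.mem_filter_univ] at hz
      obtain ⟨hzf, i₀, hi₀, hi₀z⟩ := hz
      obtain ⟨hKc, -, hKinv, -, -, -, -⟩ := L.real_centralizer hna hS hi₀ hzf hi₀z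
      have hi₀s := L.inv_eq_self hi₀
      have hi₀sq : i₀ * i₀ = 1 := by rw [← sq, ← hi₀, pow_orderOf_eq_one]
      have hzK : z ∈ centralizer ({z} : Set G) := mem_centralizer_singleton_iff.2 rfl
      rw [Nat.card_eq_fintype_card, Fintype.card_of_subtype
        ({k : G | k ∈ centralizer ({z} : Set G)} : Finset G) (by simp)]
      refine Finset.card_bij (fun k _ => (i₀ * k, i₀ * k * z)) ?_ ?_ ?_
      · intro k hk
        simp only [Finset.mem_filter_univ] at hk
        have hmem : ∀ w ∈ centralizer ({z} : Set G), orderOf (i₀ * w) = 2 := by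
          intro w hw
          haveI : Fact (Nat.Prime 2) := ⟨Nat.prime_two⟩
          refine orderOf_eq_prime ?_ fun h => ?_
          · have := hKinv w hw
            rw [hi₀s] at this
            rw [sq, show i₀ * w * (i₀ * w) = (i₀ * w * i₀) * w by group, this, inv_mul_cancel]
          · have hw' : w = i₀ := by rw [eq_inv_of_mul_eq_one_right h, hi₀s]
            exact hzf.2 i₀ hi₀ (hw' ▸ (mem_centralizer_singleton_iff.1 hw).symm)
        refine Finset.mem_filter.2 ⟨?_, ?_⟩
        · simp only [P, Finset.mem_filter_univ]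
          refine ⟨hmem k hk, by rw [mul_assoc]; exact hmem _ (mul_mem hk hzK), fun h => ?_⟩
          have h1 : Commute (i₀ * k) z := mul_left_cancel (a := i₀ * k) (b := i₀ * k * z)
            (c := z * (i₀ * k)) (by rw [h.eq]; group)
          exact hzf.2 _ (hmem k hk) h1.symm
        · show i₀ * k * (i₀ * k * z) = z
          have h1 : i₀ * k * (i₀ * k) = 1 := by rw [← sq, ← hmem k hk, pow_orderOf_eq_one]
          rw [← mul_assoc, h1, one_mul]
      · intro k _ k' _ e
        exact mul_left_cancel (congrArg Prod.fst e)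
      · rintro ⟨i, j⟩ h
        simp only [P, Finset.mem_filter, Finset.mem_univ, true_and] at h
        obtain ⟨⟨hi, hj, -⟩, rfl⟩ := h
        refine ⟨i₀ * i, ?_, ?_⟩
        · simp only [Finset.mem_filter_univ, mem_centralizer_singleton_iff]
          have e1 : i * (i * j) * i = (i * j)⁻¹ := by
            rw [mul_inv_rev, L.inv_eq_self hi, L.inv_eq_self hj, ← mul_assoc,
              show i * i = 1 by rw [← sq, ← hi, pow_orderOf_eq_one], one_mul]
          calc i₀ * i * (i * j) = i₀ * (i * (i * j) * i) * i⁻¹ := by group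
            _ = i₀ * (i * j)⁻¹ * i := by rw [e1, L.inv_eq_self hi]
            _ = i₀ * (i * j)⁻¹ * i₀⁻¹ * (i₀ * i) := by group
            _ = _ := by
              rw [show i₀ * (i * j)⁻¹ * i₀⁻¹ = (i₀ * (i * j) * i₀⁻¹)⁻¹ by group, hi₀z, inv_inv]
        · show (i₀ * (i₀ * i), i₀ * (i₀ * i) * (i * j)) = (i, j)
          rw [← mul_assoc, hi₀sq, one_mul, ← mul_assoc,
            show i * i = 1 by rw [← sq, ← hi, pow_orderOf_eq_one], one_mul]
    · rintro ⟨i, j⟩ h
      simp only [P, Finset.coe_filter, Finset.mem_univ, true_and, Set.mem_ofPred_eq] at h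
      obtain ⟨hi, hj, hc⟩ := h
      simp only [R, Finset.coe_filter, Finset.mem_univ, true_and, Set.mem_ofPred_eq]
      have hii : i * i = 1 := by rw [← sq, ← hi, pow_orderOf_eq_one]
      have hne : i * j ≠ 1 := fun e => hc (by
        rw [show j = i by rw [eq_inv_of_mul_eq_one_right e, L.inv_eq_self hi]])
      have hinvz : i * (i * j) * i⁻¹ = (i * j)⁻¹ := by
        rw [mul_inv_rev, L.inv_eq_self hi, L.inv_eq_self hj, ← mul_assoc, hii, one_mul]
      refine ⟨⟨hne, fun t ht hzt => hc ?_⟩, i, hi, hinvz⟩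
      obtain ⟨c, hcB⟩ := L.involution_conj hna ht
      have ht1 : c⁻¹ * t * c ≠ 1 := fun e => by
        have : t = 1 := by
          calc t = c * (c⁻¹ * t * c) * c⁻¹ := by group
            _ = 1 := by rw [e]; group
        simp [this] at ht
      have hzB : c⁻¹ * (i * j) * c ∈ L.B := L.mem_B_of_commute hcB ht1 (by
        have := commute_conj c⁻¹ hzt
        rwa [inv_inv] at this)
      have hz1 : c⁻¹ * (i * j) * c ≠ 1 := fun e => hne (by
        calc i * j = c * (c⁻¹ * (i * j) * c) * c⁻¹ := by group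
          _ = 1 := by rw [e]; group)
      have hiN : c⁻¹ * i * c ∈ L.N := L.mem_N_of_conj hzB hz1 (by
        rw [show c⁻¹ * i * c * (c⁻¹ * (i * j) * c) * (c⁻¹ * i * c)⁻¹ =
          c⁻¹ * (i * (i * j) * i⁻¹) * c by group, hinvz,
          show c⁻¹ * (i * j)⁻¹ * c = (c⁻¹ * (i * j) * c)⁻¹ by group]
        exact inv_mem hzB)
      have hiB := L.involution_mem (by
        rw [show c⁻¹ * i * c = c⁻¹ * i * c⁻¹⁻¹ by rw [inv_inv], orderOf_conj_eq, hi]) hiN
      have hcomm : Commute (i * j) i := commute_of_conj c⁻¹ (by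
        rw [inv_inv]; exact L.B_comm _ hzB _ hiB)
      exact (mul_left_cancel (a := i) (b := i * j) (c := j * i)
        (by rw [← hcomm.eq, mul_assoc]))
  -- the three classes
  have hCCB : CC L.B := fun k hk hk1 => L.cent k hk hk1
  let RB := classSet L.B
  let RC := classSet C
  have hRB : RB.card * (L.p * a) = g * (a - 1) := by
    have h := card_classSet hCCB
    rw [L.card_N] at h
    exact h
  have hRC : RC.card * (2 * Nat.card C) = g * (Nat.card C - 1) := by
    have h := card_classSet hCC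
    rw [hCN] at h
    exact h
  have hsubR : ∀ (t z : G), orderOf t = 2 → Free z → t * z * t⁻¹ = z⁻¹ →
      classSet (centralizer ({z} : Set G)) ⊆ R := by
    intro t z ht hz htz w hw
    obtain ⟨hw1, c, hc⟩ := mem_classSet.1 hw
    obtain ⟨-, -, hinv, hfree, -, -, -⟩ := L.real_centralizer hna hS ht hz htz
    have hk1 : c⁻¹ * w * c ≠ 1 := fun e => hw1 (by
      calc w = c * (c⁻¹ * w * c) * c⁻¹ := by group
        _ = 1 := by rw [e]; group)
    simp only [R, Finset.mem_filter_univ]
    refine ⟨?_, c * t * c⁻¹, by rw [orderOf_conj_eq, ht], ?_⟩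
    · have := (hfree _ hc hk1).conj c
      rwa [show c * (c⁻¹ * w * c) * c⁻¹ = w by group] at this
    · calc c * t * c⁻¹ * w * (c * t * c⁻¹)⁻¹ = c * (t * (c⁻¹ * w * c) * t⁻¹) * c⁻¹ := by group
        _ = c * (c⁻¹ * w * c)⁻¹ * c⁻¹ := by rw [hinv _ hc]
        _ = _ := by group
  have hRCsub : RC ⊆ R := hsubR u y hu hyf hyi
  have hBdisj : Disjoint RB R := by
    rw [Finset.disjoint_left]
    intro w hw hwR
    simp only [R, Finset.mem_filter_univ] at hwR
    obtain ⟨hw1, c, hc⟩ := mem_classSet.1 hw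
    obtain ⟨t, htB, ht⟩ := L.exists_involution
    refine hwR.1.2 (c * t * c⁻¹) (by rw [orderOf_conj_eq, ht]) ?_
    have := commute_conj c (L.B_comm _ hc _ htB)
    rwa [show c * (c⁻¹ * w * c) * c⁻¹ = w by group] at this
  have hone : RB.card + R.card + 1 ≤ g := by
    have h1 : (1 : G) ∉ RB ∪ R := by
      simp only [Finset.mem_union, not_or]
      exact ⟨fun h => (mem_classSet.1 h).1 rfl, fun h => by
        simp only [R, Finset.mem_filter_univ] at h; exact h.1.1 rfl⟩
    have h2 := Finset.card_le_univ (insert (1 : G) (RB ∪ R))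
    rw [Finset.card_insert_of_notMem h1, Finset.card_union_of_disjoint hBdisj] at h2
    rw [hgdef, Nat.card_eq_fintype_card]
    omega
  have hRsum : ∀ (s : Finset G) (K : Subgroup G), CC K → s = classSet K →
      ∑ z ∈ s, Nat.card (centralizer ({z} : Set G)) = s.card * Nat.card K := by
    intro s K hK hs
    rw [← smul_eq_mul, ← Finset.sum_const]
    exact Finset.sum_congr rfl fun z hz => card_centralizer_of_mem_classSet hK (hs ▸ hz)
  have hv1 : 1 ≤ v := Nat.one_le_iff_ne_zero.2 index_ne_zero_of_finite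
  have hv : v - 1 = a * (2 * b - 1) := by omega
  clear_value v a g
  -- the case of a single class is impossible
  by_cases hR1 : R ⊆ RC
  · exfalso
    have hReq : R = RC := Finset.Subset.antisymm hR1 hRCsub
    rw [hReq, hRsum RC C hCC rfl, hP, hb] at hsum
    rw [hb, hg] at hRC
    obtain ⟨a', rfl⟩ : ∃ a', v = a' + 1 := ⟨v - 1, by omega⟩
    simp only [Nat.add_sub_cancel] at hv
    obtain ⟨b', rfl⟩ : ∃ b', b = b' + 1 := ⟨b - 1, by omega⟩
    obtain ⟨m', hm'⟩ : ∃ m', L.p * (b' + 1) = m' + 1 := ⟨L.p * (b' + 1) - 1, by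
      have : 1 ≤ L.p * (b' + 1) := Nat.one_le_iff_ne_zero.2 (Nat.mul_ne_zero L.hp.ne_zero (by omega))
      omega⟩
    rw [hm'] at hRC hsum
    simp only [Nat.add_sub_cancel] at hRC
    rw [show (a' + 1) * L.p - L.p = a' * L.p by rw [add_mul, one_mul, Nat.add_sub_cancel]] at hsum
    rw [show 2 * (b' + 1) - 1 = 2 * b' + 1 by omega] at hv
    have hpos : 0 < (a' + 1) * (L.p * a) :=
      Nat.mul_pos (by omega) (Nat.mul_pos L.hp.pos (by omega))
    have h5 : (a' + 1) * (L.p * a) * m' = (a' + 1) * (L.p * a) * (2 * L.p * (2 * b' + 1)) := by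
      rw [← hRC]
      calc RC.card * (2 * (m' + 1)) = 2 * (RC.card * (m' + 1)) := by ring
        _ = 2 * ((a' + 1) * L.p * (a' * L.p)) := by rw [hsum]
        _ = _ := by rw [hv]; ring
    have h6 := Nat.eq_of_mul_eq_mul_left hpos h5
    nlinarith
  obtain ⟨z₁, hz₁R, hz₁C⟩ := Finset.not_subset.1 hR1
  have hz₁ := hz₁R
  simp only [R, Finset.mem_filter_univ] at hz₁
  obtain ⟨hz₁f, t₁, ht₁, ht₁z⟩ := hz₁
  obtain ⟨-, hKK, -, -, hKodd, hKN, -⟩ := L.real_centralizer hna hS ht₁ hz₁f ht₁z
  set K := centralizer ({z₁} : Set G) with hKdef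
  let RK := classSet K
  have hRKsub : RK ⊆ R := hsubR t₁ z₁ ht₁ hz₁f ht₁z
  have hdisj : Disjoint RC RK := Finset.disjoint_left.2 fun w hw hw' =>
    hz₁C (mem_classSet_of_mem hCC hz₁f.1 hw hw')
  have hRK : RK.card * (2 * Nat.card K) = g * (Nat.card K - 1) := by
    have h := card_classSet hKK
    rw [hKN, ← hgdef] at h
    exact h
  have hodd3 : ∀ (w : G) (H : Subgroup G), w ≠ 1 → w ∈ H → Odd (Nat.card H) → 3 ≤ Nat.card H := by
    intro w H hw hwH hH
    have h1 : Nat.card H ≠ 1 := fun h => hw (by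
      rw [Subgroup.card_eq_one.1 h, mem_bot] at hwH; exact hwH)
    obtain ⟨k, hk⟩ := hH
    omega
  have hthird : ∀ (r c : ℕ), 3 ≤ c → r * (2 * c) = g * (c - 1) → g ≤ 3 * r := by
    intro r c hc h
    obtain ⟨c', rfl⟩ : ∃ c', c = c' + 3 := ⟨c - 3, by omega⟩
    rw [show c' + 3 - 1 = c' + 2 by omega] at h
    nlinarith
  have hRU : R = RC ∪ RK := by
    refine (Finset.Subset.antisymm (Finset.union_subset hRCsub hRKsub) ?_).symm
    intro z₂ hz₂R
    by_contra hz₂U
    rw [Finset.mem_union, not_or] at hz₂U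
    have hz₂ := hz₂R
    simp only [R, Finset.mem_filter_univ] at hz₂
    obtain ⟨hz₂f, t₂, ht₂, ht₂z⟩ := hz₂
    obtain ⟨-, hKK₂, -, -, hKodd₂, hKN₂, -⟩ := L.real_centralizer hna hS ht₂ hz₂f ht₂z
    let R2 := classSet (centralizer ({z₂} : Set G))
    have hR2sub : R2 ⊆ R := hsubR t₂ z₂ ht₂ hz₂f ht₂z
    have hd1 : Disjoint RC R2 := Finset.disjoint_left.2 fun w hw hw' =>
      hz₂U.1 (mem_classSet_of_mem hCC hz₂f.1 hw hw')
    have hd2 : Disjoint RK R2 := Finset.disjoint_left.2 fun w hw hw' =>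
      hz₂U.2 (mem_classSet_of_mem hKK hz₂f.1 hw hw')
    have hR2 : R2.card * (2 * Nat.card (centralizer ({z₂} : Set G))) =
        g * (Nat.card (centralizer ({z₂} : Set G)) - 1) := by
      have h := card_classSet hKK₂
      rw [hKN₂, ← hgdef] at h
      exact h
    have hle := Finset.card_le_card (Finset.union_subset (Finset.union_subset hRCsub hRKsub) hR2sub)
    rw [Finset.card_union_of_disjoint (Finset.disjoint_union_left.2 ⟨hd1, hd2⟩),
      Finset.card_union_of_disjoint hdisj] at hle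
    have e1 := hthird _ _ (hodd3 y C hy1 hyC hCodd) hRC
    have e2 := hthird _ _ (hodd3 z₁ K hz₁f.1 (mem_centralizer_singleton_iff.2 rfl) hKodd) hRK
    have e3 := hthird _ _ (hodd3 z₂ _ hz₂f.1 (mem_centralizer_singleton_iff.2 rfl) hKodd₂) hR2
    omega
  rw [hRU, Finset.sum_union hdisj, hRsum RC C hCC rfl, hRsum RK K hKK rfl, hP, hb] at hsum
  rw [hRU, Finset.card_union_of_disjoint hdisj] at hone
  rw [hb] at hRC
  have hc3 := hodd3 z₁ K hz₁f.1 (mem_centralizer_singleton_iff.2 rfl) hKodd
  set c := Nat.card K with hcdef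
  set m := L.p * b with hmdef
  have hm : 1 ≤ m := Nat.one_le_iff_ne_zero.2 (Nat.mul_ne_zero L.hp.ne_zero (by omega))
  have hvpa : 0 < v * (L.p * a) :=
    Nat.mul_pos (by omega) (Nat.mul_pos L.hp.pos (by omega))
  -- the sum formula
  have hform : m - 1 + (c - 1) = 2 * L.p * (2 * b - 1) := by
    refine Nat.eq_of_mul_eq_mul_left hvpa ?_
    rw [← hg, mul_add, ← hRC, ← hRK]
    calc RC.card * (2 * m) + RK.card * (2 * c) = 2 * (RC.card * m + RK.card * c) := by ring
      _ = 2 * (v * L.p * (v * L.p - L.p)) := by rw [hsum]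
      _ = 2 * (v * L.p * ((v - 1) * L.p)) := by rw [Nat.sub_mul, one_mul]
      _ = _ := by rw [hv, hg]; ring
  have hbc : m ≤ c := by
    have h1 : 2 * L.p * (2 * b - 1) = 4 * m - 2 * L.p := by
      rw [Nat.mul_sub, mul_one, hmdef, show 2 * L.p * (2 * b) = 4 * (L.p * b) by ring]
    have : L.p ≤ m := Nat.le_mul_of_pos_right _ (by omega)
    omega
  have hrb : RB.card = v * (a - 1) := by
    refine Nat.eq_of_mul_eq_mul_right (Nat.mul_pos L.hp.pos (show 0 < a by omega)) ?_
    rw [hRB, hg]
    ring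
  have hineq : 2 * m * c * (a - 1) < L.p * a * (m + c) := by
    obtain ⟨a', ha'⟩ : ∃ a', a = a' + 1 := ⟨a - 1, by omega⟩
    obtain ⟨m', hm'⟩ : ∃ m', m = m' + 1 := ⟨m - 1, by omega⟩
    obtain ⟨c', hc'⟩ : ∃ c', c = c' + 1 := ⟨c - 1, by omega⟩
    rw [hm', Nat.add_sub_cancel] at hRC
    rw [hc', Nat.add_sub_cancel] at hRK
    rw [hrb, ha', Nat.add_sub_cancel] at hone
    rw [hm', hc', ha', Nat.add_sub_cancel]
    rw [ha'] at hg
    have h1 : 2 * (m' + 1) * (c' + 1) * (v * a' + (RC.card + RK.card) + 1) ≤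
        2 * (m' + 1) * (c' + 1) * g := Nat.mul_le_mul_left _ hone
    have h2 : 2 * (m' + 1) * (c' + 1) * (RC.card + RK.card) =
        g * (m' * (c' + 1) + c' * (m' + 1)) := by
      calc 2 * (m' + 1) * (c' + 1) * (RC.card + RK.card)
          = RC.card * (2 * (m' + 1)) * (c' + 1) + RK.card * (2 * (c' + 1)) * (m' + 1) := by ring
        _ = _ := by rw [hRC, hRK]; ring
    refine Nat.lt_of_mul_lt_mul_left (a := v) ?_
    have h3 : g * (m' * (c' + 1) + c' * (m' + 1)) + g * (m' + 1 + (c' + 1)) =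
        2 * (m' + 1) * (c' + 1) * g := by ring
    have h4 : 2 * (m' + 1) * (c' + 1) * (v * a' + (RC.card + RK.card) + 1) =
        v * (2 * (m' + 1) * (c' + 1) * a') + 2 * (m' + 1) * (c' + 1) * (RC.card + RK.card) +
          2 * (m' + 1) * (c' + 1) := by ring
    have h6 : g * (m' + 1 + (c' + 1)) = v * (L.p * (a' + 1) * (m' + 1 + (c' + 1))) := by
      rw [hg]; ring
    have h7 : 0 < 2 * (m' + 1) * (c' + 1) := Nat.mul_pos (by omega) (by omega)
    omega
  have hb1' : b = 1 := arith_b (p := L.p) (a := a) (c := c) (by omega) hb1 hbc (by rw [← hmdef]; exact hineq)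
  subst hb1'
  have hmp : m = L.p := by rw [hmdef, mul_one]
  have hcp : c = L.p + 2 := by omega
  rw [hmp, hcp] at hineq
  have hlt : a < L.p + 2 := by
    obtain ⟨a', ha'⟩ : ∃ a', a = a' + 1 := ⟨a - 1, by omega⟩
    rw [ha', Nat.add_sub_cancel] at hineq
    have h1 : L.p * (2 * (L.p + 2) * a') < L.p * ((a' + 1) * (2 * L.p + 2)) :=
      calc L.p * (2 * (L.p + 2) * a') = 2 * L.p * (L.p + 2) * a' := by ring
        _ < _ := hineq
        _ = _ := by ring
    have h2 := Nat.lt_of_mul_lt_mul_left h1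
    nlinarith
  refine ⟨by omega, ?_⟩
  rw [show 2 * 1 - 1 = 1 from rfl, mul_one] at hidx
  omega

end Setup

end CfsgLib.FGS.SelfNormSimple
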