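import Cfsg.Agent.Lib.FGS.SelfNormSimple.Basic
import Cfsg.Agent.S0205
import Cfsg.Agent.S1225

/-!
The 2-local structure of a simple group in which every nonabelian subgroup is self-normalizing.
-/

set_option autoImplicit false
set_option linter.unusedSectionVars false
set_option linter.style.haveILetI false

namespace CfsgLib.FGS.SelfNormSimple

open Subgroup

variable {G : Type*} [Group G]

/-- A self-centralizing abelian subgroup `B` of even order, of prime index `p` in its normalizer. -/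
structure Setup (G : Type*) [Group G] where
  /-- the abelian subgroup -/
  B : Subgroup G
  /-- the index of `B` in its normalizer -/
  p : ℕ
  hp : p.Prime
  p_ne_two : p ≠ 2
  B_comm : Comm B
  B_even : 2 ∣ Nat.card B
  not_dvd : ¬ p ∣ Nat.card B
  cent : ∀ b ∈ B, b ≠ 1 → centralizer ({b} : Set G) = B
  card_N : Nat.card (normalizer (B : Set G)) = p * Nat.card B
  pow_mem : ∀ n ∈ normalizer (B : Set G), n ^ p ∈ B

variable [Finite G] [IsSimpleGroup G]

theorem two_dvd_card (hna : ¬ IsMulCommutative G) : 2 ∣ Nat.card G := by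
  by_contra h
  haveI := Cfsg.Agent.S0205.result (G := G) (Nat.odd_iff.2 (by omega))
  exact hna ⟨⟨IsSimpleGroup.comm_iff_isSolvable.2 ‹_›⟩⟩

theorem exists_setup (hna : ¬ IsMulCommutative G) (hS : SN G) : Nonempty (Setup G) := by
  haveI : Fact (Nat.Prime 2) := ⟨Nat.prime_two⟩
  have h2 := two_dvd_card hna
  obtain ⟨P⟩ : Nonempty (Sylow 2 G) := inferInstance
  have hPc : Comm (P : Subgroup G) := two_group_comm hna hS h2 P.2
  have hP1 : (P : Subgroup G) ≠ ⊥ := P.ne_bot_of_dvd_card h2
  set N := normalizer ((P : Subgroup G) : Set G) with hN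
  haveI := isSolvable_normalizer hS hPc hP1
  have hnn : ¬ Group.IsNilpotent N := by
    intro hn
    have hNc : Comm N := by
      rcases nilpotent_cases hS N with hc | ⟨r, hr, hrg⟩
      · exact hc
      · refine two_group_comm hna hS h2 ?_
        obtain ⟨w, hw⟩ := Subgroup.ne_bot_iff_exists_ne_one.1 hP1
        obtain ⟨l, hl⟩ := hrg ⟨w, le_normalizer w.2⟩
        obtain ⟨k, hk⟩ := P.2 w
        by_cases hr2 : r = 2
        · subst hr2; exact hrg
        · exact absurd (orderOf_eq_one_iff.1 (Nat.eq_one_of_dvd_coprimes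
            (((Nat.coprime_primes hr Nat.prime_two).2 hr2).pow l k)
            (by rw [← orderOf_coe]; exact orderOf_dvd_of_pow_eq_one (by simpa using congrArg Subtype.val hl))
            (orderOf_dvd_of_pow_eq_one hk))) hw
    exact no_pComplement hna h2 (CfsgLib.Transfer.hasNormalPComplement_of_normalizer_le_centralizer P
      fun n hn => mem_centralizer_iff.2 fun w hw => hNc w (le_normalizer hw) n hn)
  obtain ⟨d⟩ := exists_nnData hS hnn
  have hx := orderOf_x hna hS hnn d
  have hp2 := ne_two_of_normal_two hna hS hnn d P.2 hP1 le_normalizer le_rfl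
  have hcop : Nat.Coprime 2 d.p := (Nat.coprime_primes Nat.prime_two d.hp).2 (Ne.symm hp2)
  have hPA : (P : Subgroup G) ≤ d.A := fun w hw => by
    obtain ⟨k, hk⟩ := P.2 ⟨w, hw⟩
    exact d.mem_of_coprime hx (le_normalizer hw) ((hcop.pow_left k).coprime_dvd_left
      (orderOf_dvd_of_pow_eq_one (by simpa using congrArg Subtype.val hk)))
  obtain ⟨⟨s, hs⟩, hs1⟩ := Subgroup.ne_bot_iff_exists_ne_one.1 hP1
  have hs1' : s ≠ 1 := fun e => hs1 (Subtype.ext e)
  have hcomm : ∀ b : G, b ≠ 1 → (∃ w ∈ (P : Subgroup G), w ≠ 1 ∧ w * b = b * w) →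
      Comm (centralizer ({b} : Set G)) := by
    rintro b hb ⟨w, hw, hw1, hwb⟩
    rcases centralizer_cases hna hS hb with hc | ⟨r, hr, hrg⟩
    · exact hc
    · refine two_group_comm hna hS h2 ?_
      by_cases hr2 : r = 2
      · subst hr2; exact hrg
      · obtain ⟨l, hl⟩ := hrg ⟨w, mem_centralizer_singleton_iff.2 hwb⟩
        obtain ⟨k, hk⟩ := P.2 ⟨w, hw⟩
        exact absurd (orderOf_eq_one_iff.1 (Nat.eq_one_of_dvd_coprimes
            (((Nat.coprime_primes hr Nat.prime_two).2 hr2).pow l k)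
            (orderOf_dvd_of_pow_eq_one (by simpa using congrArg Subtype.val hl))
            (orderOf_dvd_of_pow_eq_one (by simpa using congrArg Subtype.val hk)))) hw1
  have hCs : centralizer ({s} : Set G) = d.A := by
    have hc := hcomm s hs1' ⟨s, hs, hs1', rfl⟩
    refine le_antisymm (fun g hg => ?_) (fun a ha => mem_centralizer_singleton_iff.2
      (d.A_comm a ha s (hPA hs)))
    have hgN : g ∈ N := Subgroup.mem_normalizer_iff.2 fun w => by
      have key : ∀ w ∈ (P : Subgroup G), g * w * g⁻¹ = w := fun w hw => by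
        rw [hc g hg w (mem_centralizer_singleton_iff.2 (hPc w hw s hs)), mul_inv_cancel_right]
      refine ⟨fun hw => by rw [key w hw]; exact hw, fun hw => ?_⟩
      have h1 := key _ hw
      have : g * w * g⁻¹ = w := by
        calc g * w * g⁻¹ = g⁻¹ * (g * (g * w * g⁻¹) * g⁻¹) * g := by group
          _ = g⁻¹ * (g * w * g⁻¹) * g := by rw [h1]
          _ = w := by group
      rwa [this] at hw
    exact d.mem_of_commute hx hgN (hPA hs) hs1' (mem_centralizer_singleton_iff.1 hg)
  have hcent : ∀ b ∈ d.A, b ≠ 1 → centralizer ({b} : Set G) = d.A := by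
    intro b hb hb1
    refine le_antisymm (fun g hg => ?_) (fun a ha => mem_centralizer_singleton_iff.2
      (d.A_comm a ha b hb))
    rw [← hCs, mem_centralizer_singleton_iff]
    exact hcomm b hb1 ⟨s, hs, hs1', d.A_comm s (hPA hs) b hb⟩ g hg s
      (mem_centralizer_singleton_iff.2 (d.A_comm s (hPA hs) b hb))
  have hNA : normalizer (d.A : Set G) = N := by
    refine le_antisymm (fun n hn => ?_) d.le_normalizer'
    have key : ∀ m ∈ normalizer (d.A : Set G), ∀ w ∈ (P : Subgroup G),
        m * w * m⁻¹ ∈ (P : Subgroup G) := by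
      intro m hm w hw
      have hA := (Subgroup.mem_normalizer_iff.1 hm w).1 (hPA hw)
      obtain ⟨k, hk⟩ := P.2 ⟨w, hw⟩
      have hk' : (m * w * m⁻¹) ^ 2 ^ k = 1 := by
        rw [conj_pow, show w ^ 2 ^ k = 1 by simpa using congrArg Subtype.val hk, mul_one,
          mul_inv_cancel]
      have hQ : IsPGroup 2 (zpowers (m * w * m⁻¹)) := by
        rintro ⟨c, hc⟩
        obtain ⟨i, rfl⟩ := mem_zpowers_iff.1 hc
        refine ⟨k, Subtype.ext ?_⟩
        show ((m * w * m⁻¹) ^ i) ^ 2 ^ k = 1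
        rw [← zpow_natCast, ← zpow_mul, mul_comm, zpow_mul, zpow_natCast, hk', one_zpow]
      have hle : zpowers (m * w * m⁻¹) ≤ normalizer ((P : Subgroup G) : Set G) :=
        (zpowers_le.2 hA).trans d.A_le
      have h := hQ.inf_normalizer_sylow P
      have hmem : m * w * m⁻¹ ∈ zpowers (m * w * m⁻¹) ⊓ (P : Subgroup G) :=
        h ▸ ⟨mem_zpowers _, hle (mem_zpowers _)⟩
      exact hmem.2
    refine Subgroup.mem_normalizer_iff.2 fun w => ⟨key n hn w, fun h => ?_⟩
    have := key n⁻¹ (inv_mem hn) _ h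
    rwa [show n⁻¹ * (n * w * n⁻¹) * n⁻¹⁻¹ = w by group] at this
  exact ⟨{
    B := d.A
    p := d.p
    hp := d.hp
    p_ne_two := hp2
    B_comm := d.A_comm
    B_even := by
      obtain ⟨n, hn⟩ := P.2.exists_card_eq
      refine dvd_trans ?_ (card_dvd_of_le hPA)
      rw [hn]
      refine dvd_pow_self 2 ?_
      rintro rfl
      exact hP1 (Subgroup.card_eq_one.1 (by rw [hn, pow_zero]))
    not_dvd := d.not_dvd
    cent := hcent
    card_N := by rw [hNA]; exact d.card_eq' hx
    pow_mem := fun n hn => d.pow_mem' hx (hNA ▸ hn) }⟩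

namespace Setup

variable (L : Setup G)

/-- The normalizer of `B`. -/
def N : Subgroup G := normalizer (L.B : Set G)

theorem B_le : L.B ≤ L.N := le_normalizer

theorem card_N' : Nat.card L.N = L.p * Nat.card L.B := L.card_N

theorem conj_mem {n b : G} (hn : n ∈ L.N) (hb : b ∈ L.B) : n * b * n⁻¹ ∈ L.B :=
  (Subgroup.mem_normalizer_iff.1 hn b).1 hb

theorem mem_B_of_coprime {n : G} (hn : n ∈ L.N) (hc : (orderOf n).Coprime L.p) : n ∈ L.B := by
  obtain ⟨j, hj⟩ := exists_pow_eq_self_of_coprime (x := n) (n := L.p) hc.symm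
  exact hj ▸ Subgroup.pow_mem _ (L.pow_mem n hn) j

theorem coprime_of_mem {b : G} (hb : b ∈ L.B) : (orderOf b).Coprime L.p := by
  have h := orderOf_dvd_natCard (⟨b, hb⟩ : L.B)
  rw [Subgroup.orderOf_mk] at h
  exact (L.hp.coprime_iff_not_dvd.2 L.not_dvd).symm.coprime_dvd_left h

theorem mem_B_of_commute {b g : G} (hb : b ∈ L.B) (hb1 : b ≠ 1) (hg : g * b = b * g) :
    g ∈ L.B := by
  rw [← L.cent b hb hb1]
  exact mem_centralizer_singleton_iff.2 hg

/-- `B` is a TI subgroup. -/
theorem mem_N_of_conj {b g : G} (hb : b ∈ L.B) (hb1 : b ≠ 1) (hg : g * b * g⁻¹ ∈ L.B) :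
    g ∈ L.N := by
  have hgb1 : g * b * g⁻¹ ≠ 1 := fun e => hb1 (conj_eq_one_iff.1 e)
  refine Subgroup.mem_normalizer_iff.2 fun w => ⟨fun hw => ?_, fun hw => ?_⟩
  · refine L.mem_B_of_commute hg hgb1 ?_
    calc g * w * g⁻¹ * (g * b * g⁻¹) = g * (w * b) * g⁻¹ := by group
      _ = g * (b * w) * g⁻¹ := by rw [L.B_comm w hw b hb]
      _ = _ := by group
  · refine L.mem_B_of_commute hb hb1 ?_
    have h := L.B_comm _ hw _ hg
    calc w * b = g⁻¹ * ((g * w * g⁻¹) * (g * b * g⁻¹)) * g := by group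
      _ = g⁻¹ * ((g * b * g⁻¹) * (g * w * g⁻¹)) * g := by rw [h]
      _ = _ := by group

theorem B_ne_bot : L.B ≠ ⊥ := by
  intro h
  have := L.B_even
  rw [h, card_bot] at this
  omega

theorem N_ne_top (hna : ¬ IsMulCommutative G) : L.N ≠ ⊤ := by
  intro h
  have hn : L.B.Normal := normalizer_eq_top_iff.1 h
  rcases hn.eq_bot_or_eq_top with hb | ht
  · exact L.B_ne_bot hb
  · exact hna ⟨⟨fun a b => L.B_comm a (ht ▸ mem_top a) b (ht ▸ mem_top b)⟩⟩

theorem involution_mem {t : G} (ht : orderOf t = 2) (htN : t ∈ L.N) : t ∈ L.B :=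
  L.mem_B_of_coprime htN (by
    rw [ht]; exact (Nat.coprime_primes Nat.prime_two L.hp).2 (Ne.symm L.p_ne_two))

theorem exists_involution : ∃ t ∈ L.B, orderOf t = 2 := by
  haveI : Fact (Nat.Prime 2) := ⟨Nat.prime_two⟩
  obtain ⟨t, ht⟩ := exists_prime_orderOf_dvd_card' (G := L.B) 2 L.B_even
  exact ⟨t, t.2, by rw [orderOf_coe, ht]⟩

theorem stronglyEmbedded (hna : ¬ IsMulCommutative G) : Cfsg.IsStronglyEmbedded L.N := by
  refine ⟨L.N_ne_top hna, even_iff_two_dvd.2 (L.B_even.trans (card_dvd_of_le L.B_le)),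
    fun g hg => ?_⟩
  rw [← Nat.not_even_iff_odd]
  intro he
  haveI : Fact (Nat.Prime 2) := ⟨Nat.prime_two⟩
  obtain ⟨⟨t, ht1, ht2⟩, ht⟩ := exists_prime_orderOf_dvd_card' 2 (even_iff_two_dvd.1 he)
  replace ht : orderOf t = 2 := (orderOf_injective
    (L.N ⊓ L.N.map (MulAut.conj g).toMonoidHom).subtype (Subgroup.subtype_injective _) _).trans ht
  obtain ⟨m, hm, hmt⟩ := ht2
  have hmo : orderOf m = 2 := by
    rw [← orderOf_injective (MulAut.conj g).toMonoidHom (MulAut.conj g).injective m, hmt, ht]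
  have hm1 : m ≠ 1 := fun e => by simp [e] at hmo
  refine hg (L.mem_N_of_conj (L.involution_mem hmo hm) hm1 ?_)
  rw [show g * m * g⁻¹ = t from hmt]
  exact L.involution_mem ht ht1

theorem exists_involution_not_mem (hna : ¬ IsMulCommutative G) :
    ∃ u : G, orderOf u = 2 ∧ u ∉ L.N := by
  by_contra! h
  obtain ⟨t, -, ht⟩ := L.exists_involution
  have hle : normalClosure ({t} : Set G) ≤ L.N := by
    refine (closure_le _).2 fun w hw => ?_
    obtain ⟨a, ha, hc⟩ := Group.mem_conjugatesOfSet_iff.1 hw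
    rw [Set.mem_singleton_iff] at ha
    subst ha
    obtain ⟨c, rfl⟩ := isConj_iff.1 hc
    refine h _ ?_
    rw [show c * a * c⁻¹ = MulAut.conj c a from rfl, MulEquiv.orderOf_eq, ht]
  rcases (normalClosure_normal (s := ({t} : Set G))).eq_bot_or_eq_top with hb | ht'
  · have : t ∈ (⊥ : Subgroup G) := hb ▸ subset_normalClosure rfl
    rw [mem_bot] at this
    simp [this] at ht
  · exact L.N_ne_top hna (top_le_iff.1 (ht' ▸ hle))

variable (hna : ¬ IsMulCommutative G)

include L hna in
theorem isConj_involutions {a b : G} (ha : orderOf a = 2) (hb : orderOf b = 2) : IsConj a b := by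
  obtain ⟨u, hu, huN⟩ := L.exists_involution_not_mem hna
  obtain ⟨t, htB, ht⟩ := L.exists_involution
  exact (Cfsg.Agent.S1225.result L.N (L.stronglyEmbedded hna) u hu huN t t ht (L.B_le htB) ht
    (L.B_le htB)).2 a b ha hb

include L hna in
/-- Every involution has a centralizer conjugate to `B`. -/
theorem involution_conj {t : G} (ht : orderOf t = 2) : ∃ g : G, g⁻¹ * t * g ∈ L.B := by
  obtain ⟨s, hsB, hs⟩ := L.exists_involution
  obtain ⟨c, hc⟩ := isConj_iff.1 (L.isConj_involutions hna hs ht)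
  exact ⟨c, by rw [← hc, show c⁻¹ * (c * s * c⁻¹) * c = s by group]; exact hsB⟩

include L hna in
theorem commute_trans {t w x : G} (ht : orderOf t = 2) (hw : w ≠ 1) (hwt : Commute w t)
    (hxw : Commute x w) : Commute x t := by
  obtain ⟨g, hg⟩ := L.involution_conj hna ht
  have hc : ∀ v z : G, Commute v z → Commute (g⁻¹ * v * g) (g⁻¹ * z * g) := fun v z h => by
    show g⁻¹ * v * g * (g⁻¹ * z * g) = g⁻¹ * z * g * (g⁻¹ * v * g)
    rw [show g⁻¹ * v * g * (g⁻¹ * z * g) = g⁻¹ * (v * z) * g by group, h.eq]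
    group
  have ht1 : g⁻¹ * t * g ≠ 1 := fun e => by
    have : t = 1 := by
      calc t = g * (g⁻¹ * t * g) * g⁻¹ := by group
        _ = 1 := by rw [e]; group
    simp [this] at ht
  have hwB := L.mem_B_of_commute hg ht1 (hc w t hwt)
  have hw1 : g⁻¹ * w * g ≠ 1 := fun e => hw (by
    calc w = g * (g⁻¹ * w * g) * g⁻¹ := by group
      _ = 1 := by rw [e]; group)
  have hxB := L.mem_B_of_commute hwB hw1 (hc x w hxw)
  have h := L.B_comm _ hxB _ hg
  show x * t = t * x
  calc x * t = g * ((g⁻¹ * x * g) * (g⁻¹ * t * g)) * g⁻¹ := by group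
    _ = g * ((g⁻¹ * t * g) * (g⁻¹ * x * g)) * g⁻¹ := by rw [h]
    _ = _ := by group

include L hna in
theorem coprime_of_commute {t x : G} (ht : orderOf t = 2) (hxt : Commute x t) :
    (orderOf x).Coprime L.p := by
  obtain ⟨g, hg⟩ := L.involution_conj hna ht
  have ht1 : g⁻¹ * t * g ≠ 1 := fun e => by
    have : t = 1 := by
      calc t = g * (g⁻¹ * t * g) * g⁻¹ := by group
        _ = 1 := by rw [e]; group
    simp [this] at ht
  have hxB : g⁻¹ * x * g ∈ L.B := L.mem_B_of_commute hg ht1 (by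
    rw [show g⁻¹ * x * g * (g⁻¹ * t * g) = g⁻¹ * (x * t) * g by group, hxt.eq]
    group)
  have := L.coprime_of_mem hxB
  rwa [show g⁻¹ * x * g = MulAut.conj g⁻¹ x by simp, MulEquiv.orderOf_eq] at this

end Setup

end CfsgLib.FGS.SelfNormSimple
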