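import Cfsg.Agent.Lib.FGS.SelfNormSimple.Real

/-!
The action on the cosets of the normalizer of `B`.
-/

set_option autoImplicit false
set_option linter.unusedSectionVars false
set_option linter.style.haveILetI false

namespace CfsgLib.FGS.SelfNormSimple

open Subgroup

namespace Setup

variable {G : Type*} [Group G] [Finite G] [IsSimpleGroup G] (L : Setup G)
  (hna : ¬ IsMulCommutative G) (hS : SN G)

/-- The intersection of `N` with its conjugate by `u`. -/
def D (u : G) : Subgroup G := L.N ⊓ L.N.comap (MulAut.conj u).toMonoidHom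

theorem mem_D {u n : G} : n ∈ L.D u ↔ n ∈ L.N ∧ u * n * u⁻¹ ∈ L.N := Iff.rfl

include L in
theorem inv_eq_self {u : G} (hu : orderOf u = 2) : u⁻¹ = u :=
  inv_eq_of_mul_eq_one_right (by rw [← sq, ← hu, pow_orderOf_eq_one])

theorem conj_mem_D {u d : G} (hu : orderOf u = 2) (hd : d ∈ L.D u) : u * d * u⁻¹ ∈ L.D u := by
  refine ⟨hd.2, ?_⟩
  show u * (u * d * u⁻¹) * u⁻¹ ∈ L.N
  rw [L.inv_eq_self hu, show u * (u * d * u) * u = (u * u) * d * (u * u) by group,
    show u * u = 1 by rw [← sq, ← hu, pow_orderOf_eq_one]]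
  simpa using hd.1

theorem D_eq_one {u d : G} (huN : u ∉ L.N) (hd : d ∈ L.D u) (hdB : d ∈ L.B) : d = 1 := by
  by_contra h1
  refine huN (L.mem_N_of_conj hdB h1 (L.mem_B_of_coprime hd.2 ?_))
  show (orderOf (u * d * u⁻¹)).Coprime L.p
  rw [orderOf_conj_eq]
  exact L.coprime_of_mem hdB

theorem D_pow {u d : G} (huN : u ∉ L.N) (hd : d ∈ L.D u) : d ^ L.p = 1 :=
  L.D_eq_one huN (Subgroup.pow_mem _ hd _) (L.pow_mem d hd.1)

theorem not_mem_B {u d : G} (huN : u ∉ L.N) (hd : d ∈ L.D u) (hd1 : d ≠ 1) : d ∉ L.B :=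
  fun h => hd1 (L.D_eq_one huN hd h)

theorem orderOf_D {u d : G} (huN : u ∉ L.N) (hd : d ∈ L.D u) (hd1 : d ≠ 1) :
    orderOf d = L.p := by
  haveI : Fact L.p.Prime := ⟨L.hp⟩
  exact orderOf_eq_prime (L.D_pow huN hd) hd1

theorem card_D_le {u : G} (huN : u ∉ L.N) : Nat.card (L.D u) ≤ L.p := by
  let f : L.D u × L.B → L.N := fun x =>
    ⟨x.1 * x.2, mul_mem x.1.2.1 (L.B_le x.2.2)⟩
  have hf : Function.Injective f := by
    rintro ⟨d, b⟩ ⟨d', b'⟩ e
    have e' : (d : G) * b = d' * b' := congrArg Subtype.val e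
    have h1 : (d' : G)⁻¹ * d = 1 := L.D_eq_one huN (mul_mem (inv_mem d'.2) d.2) (by
      rw [show (d' : G)⁻¹ * d = b' * (b : G)⁻¹ by
        rw [eq_mul_inv_iff_mul_eq, mul_assoc, e', inv_mul_cancel_left]]
      exact mul_mem b'.2 (inv_mem b.2))
    have hd : d = d' := Subtype.ext (inv_mul_eq_one.1 h1).symm
    subst hd
    rw [Prod.mk.injEq]
    exact ⟨rfl, Subtype.ext (mul_left_cancel e')⟩
  have h := Nat.card_le_card_of_injective f hf
  rw [Nat.card_prod, L.card_N'] at h
  exact Nat.le_of_mul_le_mul_right h Nat.card_pos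

include L hna in
theorem exists_D {u : G} (hu : orderOf u = 2) (huN : u ∉ L.N) : ∃ d ∈ L.D u, d ≠ 1 := by
  by_contra! h
  obtain ⟨t, htB, ht⟩ := L.exists_involution
  haveI : Fact L.p.Prime := ⟨L.hp⟩
  obtain ⟨n, hn⟩ := exists_prime_orderOf_dvd_card' (G := L.N) L.p
    (by rw [L.card_N']; exact dvd_mul_right _ _)
  have hn' : orderOf (n : G) = L.p := by rw [orderOf_coe, hn]
  have ht' : orderOf ((n : G) * t * (n : G)⁻¹) = 2 := by rw [orderOf_conj_eq, ht]
  obtain ⟨d, ⟨hd1, hd2⟩, hd⟩ := (Cfsg.Agent.S1225.result L.N (L.stronglyEmbedded hna) u hu huN t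
    ((n : G) * t * (n : G)⁻¹) ht (L.B_le htB) ht' (L.B_le (L.conj_mem n.2 htB))).1
  obtain ⟨m, hm, rfl⟩ := hd2
  have hD : (MulAut.conj u).toMonoidHom m ∈ L.D u := by
    refine ⟨hd1, ?_⟩
    show u * (u * m * u⁻¹) * u⁻¹ ∈ L.N
    rw [L.inv_eq_self hu, show u * (u * m * u) * u = (u * u) * m * (u * u) by group,
      show u * u = 1 by rw [← sq, ← hu, pow_orderOf_eq_one]]
    simpa using hm
  rw [h _ hD] at hd
  have hc : (n : G) * t = t * n := by
    rw [inv_one, one_mul, mul_one] at hd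
    conv_rhs => rw [hd]
    group
  have hnB := L.mem_B_of_commute htB (fun e => by simp [e] at ht) hc
  have := L.coprime_of_mem hnB
  rw [hn', Nat.coprime_self] at this
  exact L.hp.ne_one this

include L hna in
theorem card_D {u : G} (hu : orderOf u = 2) (huN : u ∉ L.N) : Nat.card (L.D u) = L.p := by
  obtain ⟨d, hd, hd1⟩ := L.exists_D hna hu huN
  refine le_antisymm (L.card_D_le huN) ?_
  rw [← L.orderOf_D huN hd hd1, ← Nat.card_zpowers]
  exact Nat.card_le_card_of_injective (Subgroup.inclusion (zpowers_le.2 hd))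
    (Subgroup.inclusion_injective _)

include L hna in
theorem D_eq_zpowers {u d : G} (hu : orderOf u = 2) (huN : u ∉ L.N) (hd : d ∈ L.D u)
    (hd1 : d ≠ 1) : L.D u = zpowers d := by
  refine (eq_of_le_of_card_ge (zpowers_le.2 hd) ?_).symm
  rw [Nat.card_zpowers, L.orderOf_D huN hd hd1, L.card_D hna hu huN]

include L hna in
theorem D_comm {u : G} (hu : orderOf u = 2) (huN : u ∉ L.N) : Comm (L.D u) := by
  obtain ⟨d, hd, hd1⟩ := L.exists_D hna hu huN
  rw [L.D_eq_zpowers hna hu huN hd hd1]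
  rintro _ ⟨i, rfl⟩ _ ⟨j, rfl⟩
  exact (Commute.zpow_zpow (Commute.refl d) i j).eq

include L hna in
theorem D_inverted {u d : G} (hu : orderOf u = 2) (huN : u ∉ L.N) (hd : d ∈ L.D u) :
    u * d * u⁻¹ = d⁻¹ := by
  have hd' := L.conj_mem_D hu hd
  have hc := L.D_comm hna hu huN d hd _ hd'
  have huu : u * u = 1 := by rw [← sq, ← hu, pow_orderOf_eq_one]
  have hw : Commute (d * (u * d * u⁻¹)) u := by
    show d * (u * d * u⁻¹) * u = u * (d * (u * d * u⁻¹))
    calc d * (u * d * u⁻¹) * u = d * (u * d) := by group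
      _ = (u * u) * d * (u * d) := by rw [huu, one_mul]
      _ = u * ((u * d * u⁻¹) * (u * u) * d) := by group
      _ = u * ((u * d * u⁻¹) * d) := by rw [huu, mul_one]
      _ = _ := by rw [← hc]
  have hmem := mul_mem hd hd'
  have h1 : d * (u * d * u⁻¹) = 1 := by
    by_contra h1
    have := L.coprime_of_commute hna hu hw
    rw [L.orderOf_D huN hmem h1, Nat.coprime_self] at this
    exact L.hp.ne_one this
  exact (eq_inv_of_mul_eq_one_right h1)

include L hna in
theorem free_D {u d : G} (huN : u ∉ L.N) (hd : d ∈ L.D u) (hd1 : d ≠ 1) : Free d := by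
  refine ⟨hd1, fun t ht hc => ?_⟩
  have := L.coprime_of_commute hna ht hc
  rw [L.orderOf_D huN hd hd1, Nat.coprime_self] at this
  exact L.hp.ne_one this

include L hna in
/-- Every element of `N` outside `B` is conjugate by `B` into `D u`. -/
theorem exists_conj_D {u : G} (hu : orderOf u = 2) (huN : u ∉ L.N) {n : G} (hn : n ∈ L.N)
    (hnB : n ∉ L.B) : ∃ b ∈ L.B, ∃ d ∈ L.D u, d ≠ 1 ∧ n = b * d * b⁻¹ := by
  let f : L.D u × L.B → L.N := fun x =>
    ⟨x.1 * x.2, mul_mem x.1.2.1 (L.B_le x.2.2)⟩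
  have hf : Function.Injective f := by
    rintro ⟨d, b⟩ ⟨d', b'⟩ e
    have e' : (d : G) * b = d' * b' := congrArg Subtype.val e
    have h1 : (d' : G)⁻¹ * d = 1 := L.D_eq_one huN (mul_mem (inv_mem d'.2) d.2) (by
      rw [show (d' : G)⁻¹ * d = b' * (b : G)⁻¹ by
        rw [eq_mul_inv_iff_mul_eq, mul_assoc, e', inv_mul_cancel_left]]
      exact mul_mem b'.2 (inv_mem b.2))
    have hd : d = d' := Subtype.ext (inv_mul_eq_one.1 h1).symm
    subst hd
    rw [Prod.mk.injEq]
    exact ⟨rfl, Subtype.ext (mul_left_cancel e')⟩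
  have hbij : Function.Bijective f := (Nat.bijective_iff_injective_and_card f).2 ⟨hf, by
    rw [Nat.card_prod, L.card_N', L.card_D hna hu huN]⟩
  obtain ⟨⟨⟨d, hd⟩, ⟨c, hc⟩⟩, e⟩ := hbij.2 ⟨n, hn⟩
  have e' : d * c = n := congrArg Subtype.val e
  have hd1 : d ≠ 1 := fun h => hnB (by rw [← e', h, one_mul]; exact hc)
  let g : L.B → L.B := fun b => ⟨d⁻¹ * b * d * (b : G)⁻¹, mul_mem (by
    have := L.conj_mem (inv_mem hd.1) b.2
    rwa [inv_inv] at this) (inv_mem b.2)⟩
  have hg : Function.Injective g := by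
    intro b b' e
    have e1 : d⁻¹ * b * d * (b : G)⁻¹ = d⁻¹ * b' * d * (b' : G)⁻¹ := congrArg Subtype.val e
    by_contra hne
    have hw : (b' : G)⁻¹ * b ∈ L.B := mul_mem (inv_mem b'.2) b.2
    have hw1 : (b' : G)⁻¹ * b ≠ 1 := fun h => hne (Subtype.ext (inv_mul_eq_one.1 h).symm)
    refine L.not_mem_B huN hd hd1 (L.mem_B_of_commute hw hw1 ?_)
    have h2 : (b : G) * d * (b : G)⁻¹ = b' * d * (b' : G)⁻¹ := by
      have := congrArg (fun z => d * z) e1
      simpa [mul_assoc] using this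
    calc d * ((b' : G)⁻¹ * b) = (b' : G)⁻¹ * (b' * d * (b' : G)⁻¹) * b := by group
      _ = (b' : G)⁻¹ * (b * d * (b : G)⁻¹) * b := by rw [h2]
      _ = _ := by group
  obtain ⟨b, hb⟩ := (Finite.injective_iff_surjective.1 hg) ⟨c, hc⟩
  refine ⟨b, b.2, d, hd, hd1, ?_⟩
  have : d⁻¹ * b * d * (b : G)⁻¹ = c := congrArg Subtype.val hb
  rw [← e', ← this]
  group

include L hna in
theorem card_involutions_B : Nat.card {t : G // orderOf t = 2 ∧ t ∈ L.B} = L.p := by
  obtain ⟨u, hu, huN⟩ := L.exists_involution_not_mem hna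
  obtain ⟨t, htB, ht⟩ := L.exists_involution
  rw [← L.card_D hna hu huN]
  refine (Nat.card_congr (Equiv.ofBijective (fun d : L.D u =>
    (⟨(d : G) * t * (d : G)⁻¹, by rw [orderOf_conj_eq, ht], L.conj_mem d.2.1 htB⟩ :
      {t : G // orderOf t = 2 ∧ t ∈ L.B})) ⟨?_, ?_⟩)).symm
  · intro d d' e
    have e1 : (d : G) * t * (d : G)⁻¹ = d' * t * (d' : G)⁻¹ := congrArg Subtype.val e
    refine Subtype.ext (inv_mul_eq_one.1 (L.D_eq_one huN (mul_mem (inv_mem d'.2) d.2)
      (L.mem_B_of_commute htB (fun h => by simp [h] at ht) ?_))).symm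
    calc (d' : G)⁻¹ * d * t = (d' : G)⁻¹ * (d * t * (d : G)⁻¹) * d := by group
      _ = (d' : G)⁻¹ * (d' * t * (d' : G)⁻¹) * d := by rw [e1]
      _ = _ := by group
  · rintro ⟨s, hs, hsB⟩
    obtain ⟨d, ⟨hd1, hd2⟩, hd⟩ := (Cfsg.Agent.S1225.result L.N (L.stronglyEmbedded hna) u hu huN t
      s ht (L.B_le htB) hs (L.B_le hsB)).1
    obtain ⟨m, hm, rfl⟩ := hd2
    refine ⟨⟨_, hd1, ?_⟩, Subtype.ext hd⟩
    show u * (u * m * u⁻¹) * u⁻¹ ∈ L.N
    rw [L.inv_eq_self hu, show u * (u * m * u) * u = (u * u) * m * (u * u) by group,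
      show u * u = 1 by rw [← sq, ← hu, pow_orderOf_eq_one]]
    simpa using hm

include L in
theorem card_G : Nat.card G = L.N.index * (L.p * Nat.card L.B) := by
  rw [← L.card_N', index_mul_card]

include L hna in
theorem card_involutions : Nat.card {t : G // orderOf t = 2} = L.N.index * L.p := by
  obtain ⟨t, htB, ht⟩ := L.exists_involution
  let f : G ⧸ L.B → {s : G // orderOf s = 2} :=
    Quotient.lift (fun g : G => ⟨g * t * g⁻¹, by rw [orderOf_conj_eq, ht]⟩) (by
      intro a b hab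
      replace hab : a⁻¹ * b ∈ L.B := QuotientGroup.leftRel_apply.1 hab
      refine Subtype.ext ?_
      show a * t * a⁻¹ = b * t * b⁻¹
      calc a * t * a⁻¹ = a * (t * (a⁻¹ * b)) * b⁻¹ := by group
        _ = a * ((a⁻¹ * b) * t) * b⁻¹ := by rw [L.B_comm t htB _ hab]
        _ = _ := by group)
  have hf : Function.Bijective f := by
    constructor
    · intro x y
      refine Quotient.inductionOn₂' x y fun a b e => ?_
      have e1 : a * t * a⁻¹ = b * t * b⁻¹ := congrArg Subtype.val e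
      refine QuotientGroup.eq.2 (L.mem_B_of_commute htB (fun h => by simp [h] at ht) ?_)
      calc a⁻¹ * b * t = a⁻¹ * (b * t * b⁻¹) * b := by group
        _ = a⁻¹ * (a * t * a⁻¹) * b := by rw [e1]
        _ = _ := by group
    · rintro ⟨s, hs⟩
      obtain ⟨c, hc⟩ := isConj_iff.1 (L.isConj_involutions hna ht hs)
      exact ⟨QuotientGroup.mk c, Subtype.ext hc⟩
  rw [← Nat.card_congr (Equiv.ofBijective f hf), ← index_eq_card]
  refine Nat.eq_of_mul_eq_mul_right (Nat.card_pos (α := L.B)) ?_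
  rw [index_mul_card, mul_assoc, ← L.card_G]

include L hna in
/-- Every coset different from `N` contains an involution. -/
theorem exists_involution_coset {g : G} (hg : g ∉ L.N) :
    ∃ t : G, orderOf t = 2 ∧ t ∉ L.N ∧ g⁻¹ * t ∈ L.N := by
  classical
  haveI := Fintype.ofFinite G
  haveI := Fintype.ofFinite (G ⧸ L.N)
  let J : Finset G := {t : G | orderOf t = 2 ∧ t ∉ L.N}
  let o : G ⧸ L.N := QuotientGroup.mk (1 : G)
  have himg : J.image (fun t : G => (QuotientGroup.mk t : G ⧸ L.N)) ⊆ Finset.univ.erase o := by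
    intro w hw
    obtain ⟨t, htJ, rfl⟩ := Finset.mem_image.1 hw
    simp only [J, Finset.mem_filter_univ] at htJ
    refine Finset.mem_erase.2 ⟨fun e => htJ.2 ?_, Finset.mem_univ _⟩
    have := QuotientGroup.eq.1 e.symm
    rwa [inv_one, one_mul] at this
  have hfib : ∀ w ∈ J.image (fun t : G => (QuotientGroup.mk t : G ⧸ L.N)),
      (J.filter fun t : G => (QuotientGroup.mk t : G ⧸ L.N) = w).card ≤ L.p := by
    intro w hw
    obtain ⟨t₀, ht₀, rfl⟩ := Finset.mem_image.1 hw
    simp only [J, Finset.mem_filter_univ] at ht₀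
    rw [← L.card_D hna ht₀.1 ht₀.2, Nat.card_eq_fintype_card, ← Finset.card_univ]
    have hmem : ∀ t ∈ J.filter fun t : G => (QuotientGroup.mk t : G ⧸ L.N) = QuotientGroup.mk t₀,
        t₀ * t ∈ L.D t₀ := by
      intro t ht
      simp only [J, Finset.mem_filter, Finset.mem_univ, true_and] at ht
      have h1 : t₀ * t ∈ L.N := by
        have := QuotientGroup.eq.1 ht.2.symm
        rwa [L.inv_eq_self ht₀.1] at this
      refine ⟨h1, ?_⟩
      show t₀ * (t₀ * t) * t₀⁻¹ ∈ L.N
      rw [L.inv_eq_self ht₀.1, show t₀ * (t₀ * t) * t₀ = (t₀ * t₀) * (t * t₀) by group,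
        show t₀ * t₀ = 1 by rw [← sq, ← ht₀.1, pow_orderOf_eq_one], one_mul]
      have := inv_mem h1
      rwa [mul_inv_rev, L.inv_eq_self ht₀.1, L.inv_eq_self ht.1.1] at this
    exact Finset.card_le_card_of_injOn (fun t => if h : t₀ * t ∈ L.D t₀ then
        (⟨t₀ * t, h⟩ : L.D t₀) else 1) (fun _ _ => Finset.mem_univ _) fun a ha b hb e => by
      simp only [dif_pos (hmem a ha), dif_pos (hmem b hb)] at e
      exact mul_left_cancel (congrArg Subtype.val e)
  have hJ : J.card + L.p = L.N.index * L.p := by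
    conv_lhs => rw [← L.card_involutions_B hna]
    rw [← L.card_involutions hna, Nat.card_eq_fintype_card, Nat.card_eq_fintype_card,
      Fintype.card_subtype, Fintype.card_subtype, ← Finset.card_union_of_disjoint]
    · congr 1
      ext t
      simp only [J, Finset.mem_union, Finset.mem_filter_univ]
      refine ⟨?_, fun h => ?_⟩
      · rintro (⟨h, -⟩ | ⟨h, -⟩) <;> exact h
      · by_cases htN : t ∈ L.N
        · exact Or.inr ⟨h, L.involution_mem h htN⟩
        · exact Or.inl ⟨h, htN⟩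
    · rw [Finset.disjoint_left]
      intro t ht ht'
      simp only [J, Finset.mem_filter_univ] at ht ht'
      exact ht.2 (L.B_le ht'.2)
  have hcard : (Finset.univ.erase o).card ≤
      (J.image (fun t : G => (QuotientGroup.mk t : G ⧸ L.N))).card := by
    have h := Finset.card_le_mul_card_image J L.p hfib
    rw [Finset.card_erase_of_mem (Finset.mem_univ _), Finset.card_univ, ← Nat.card_eq_fintype_card,
      ← index_eq_card]
    have hi : 1 ≤ L.N.index := Nat.one_le_iff_ne_zero.2 index_ne_zero_of_finite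
    refine Nat.le_of_mul_le_mul_left ?_ L.hp.pos
    rw [Nat.mul_sub, mul_one, mul_comm L.p L.N.index]
    omega
  have he := Finset.eq_of_subset_of_card_le himg hcard
  have hgm : (QuotientGroup.mk g : G ⧸ L.N) ∈ Finset.univ.erase o := by
    refine Finset.mem_erase.2 ⟨fun e => hg ?_, Finset.mem_univ _⟩
    have := QuotientGroup.eq.1 e.symm
    rwa [inv_one, one_mul] at this
  rw [← he] at hgm
  obtain ⟨t, htJ, e⟩ := Finset.mem_image.1 hgm
  simp only [J, Finset.mem_filter_univ] at htJ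
  exact ⟨t, htJ.1, htJ.2, QuotientGroup.eq.1 e.symm⟩

end Setup

end CfsgLib.FGS.SelfNormSimple
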