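import Cfsg.Agent.Lib.FGS.SelfNormSimple.Local

/-!
Real elements commuting with no involution, and the conjugates of a self-centralizing subgroup.
-/

set_option autoImplicit false
set_option linter.unusedSectionVars false
set_option linter.style.haveILetI false

namespace CfsgLib.FGS.SelfNormSimple

open Subgroup

variable {G : Type*} [Group G]

/-- A nontrivial element commuting with no involution. -/
def Free (z : G) : Prop := z ≠ 1 ∧ ∀ t : G, orderOf t = 2 → ¬ Commute z t

theorem orderOf_conj_eq (g x : G) : orderOf (g * x * g⁻¹) = orderOf x :=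
  MulEquiv.orderOf_eq (MulAut.conj g) x

theorem commute_conj {x z : G} (g : G) (h : Commute x z) :
    Commute (g * x * g⁻¹) (g * z * g⁻¹) := by
  show g * x * g⁻¹ * (g * z * g⁻¹) = g * z * g⁻¹ * (g * x * g⁻¹)
  rw [show g * x * g⁻¹ * (g * z * g⁻¹) = g * (x * z) * g⁻¹ by group, h.eq]
  group

theorem commute_of_conj {x z : G} (g : G) (h : Commute (g * x * g⁻¹) (g * z * g⁻¹)) :
    Commute x z := by
  have := commute_conj g⁻¹ h
  rwa [show g⁻¹ * (g * x * g⁻¹) * g⁻¹⁻¹ = x by group,
    show g⁻¹ * (g * z * g⁻¹) * g⁻¹⁻¹ = z by group] at this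

theorem Free.conj {z : G} (hz : Free z) (g : G) : Free (g * z * g⁻¹) := by
  refine ⟨fun h => hz.1 (conj_eq_one_iff.1 h), fun t ht hc => hz.2 (g⁻¹ * t * g) ?_ ?_⟩
  · rw [show g⁻¹ * t * g = g⁻¹ * t * g⁻¹⁻¹ by rw [inv_inv], orderOf_conj_eq, ht]
  · refine commute_of_conj g ?_
    rwa [show g * (g⁻¹ * t * g) * g⁻¹ = t by group]

theorem mem_conj_centralizer {g k w : G} :
    w ∈ centralizer ({g * k * g⁻¹} : Set G) ↔ g⁻¹ * w * g ∈ centralizer ({k} : Set G) := by
  rw [mem_centralizer_singleton_iff, mem_centralizer_singleton_iff]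
  have e : w = g * (g⁻¹ * w * g) * g⁻¹ := by group
  conv_lhs => rw [e]
  exact ⟨fun h => commute_of_conj g h, fun h => commute_conj g h⟩

/-- `K` is a self-centralizing subgroup. -/
def CC (K : Subgroup G) : Prop := ∀ k ∈ K, k ≠ 1 → centralizer ({k} : Set G) = K

variable [Finite G]

theorem CC.mem_normalizer {K : Subgroup G} (hK : CC K) {g k : G} (hk : k ∈ K)
    (hk1 : k ≠ 1) (hg : g * k * g⁻¹ ∈ K) : g ∈ normalizer (K : Set G) := by
  have h := hK _ hg (fun e => hk1 (conj_eq_one_iff.1 e))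
  refine Subgroup.mem_normalizer_iff.2 fun w => ⟨fun hw => ?_, fun hw => ?_⟩
  · rw [← h, mem_conj_centralizer, hK k hk hk1]
    rwa [show g⁻¹ * (g * w * g⁻¹) * g = w by group]
  · rw [← h, mem_conj_centralizer, hK k hk hk1] at hw
    rwa [show g⁻¹ * (g * w * g⁻¹) * g = w by group] at hw

section ClassSet

open Finset

/-- The nontrivial elements conjugate into `K`. -/
noncomputable def classSet [Fintype G] (K : Subgroup G) : Finset G :=
  @Finset.filter G (fun z => z ≠ 1 ∧ ∃ g, g⁻¹ * z * g ∈ K) (_root_.Classical.decPred _) Finset.univ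

variable [Fintype G]

theorem mem_classSet {K : Subgroup G} {z : G} :
    z ∈ classSet K ↔ z ≠ 1 ∧ ∃ g, g⁻¹ * z * g ∈ K := by
  simp [classSet]

theorem card_classSet {K : Subgroup G} (hK : CC K) :
    #(classSet K) * Nat.card (normalizer (K : Set G)) = Nat.card G * (Nat.card K - 1) := by
  classical
  let Ks : Finset G := {k : G | k ∈ K ∧ k ≠ 1}
  let Ns : Finset G := {n : G | n ∈ normalizer (K : Set G)}
  have hKs : #Ks = Nat.card K - 1 := by
    have h1 : Nat.card K = #({k : G | k ∈ K} : Finset G) := by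
      rw [Nat.card_eq_fintype_card]
      exact Fintype.card_of_subtype _ (by simp)
    have h2 : Ks = ({k : G | k ∈ K} : Finset G).erase 1 := by
      ext k
      simp [Ks, and_comm]
    rw [h2, card_erase_of_mem (by simp [one_mem]), h1]
  have hNs : Nat.card (normalizer (K : Set G)) = #Ns := by
    rw [Nat.card_eq_fintype_card]
    exact Fintype.card_of_subtype _ (by simp [Ns])
  have key : #(univ ×ˢ Ks : Finset (G × G)) = ∑ _z ∈ classSet K, #Ns := by
    rw [card_eq_sum_card_fiberwise (f := fun p : G × G => p.1 * p.2 * p.1⁻¹) (t := classSet K)]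
    · refine sum_congr rfl fun z hz => ?_
      obtain ⟨hz1, g₀, hg₀⟩ := mem_classSet.1 hz
      refine (card_bij (fun n _ => (g₀ * n, n⁻¹ * (g₀⁻¹ * z * g₀) * n)) ?_ ?_ ?_).symm
      · intro n hn
        simp only [Ns, mem_filter_univ] at hn
        refine mem_filter.2 ⟨mem_product.2 ⟨mem_univ _, ?_⟩, ?_⟩
        · simp only [Ks, mem_filter_univ]
          refine ⟨(Subgroup.mem_normalizer_iff''.1 hn _).1 hg₀, fun e => hz1 ?_⟩
          calc z = g₀ * n * (n⁻¹ * (g₀⁻¹ * z * g₀) * n) * n⁻¹ * g₀⁻¹ := by group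
            _ = 1 := by rw [e]; group
        · group
      · intro a _ b _ e
        exact mul_left_cancel (congrArg Prod.fst e)
      · rintro ⟨g, k⟩ hgk
        obtain ⟨hk', e⟩ := mem_filter.1 hgk
        simp only [Ks, mem_product, mem_filter_univ, mem_univ, true_and] at hk'
        dsimp only at e
        subst e
        refine ⟨g₀⁻¹ * g, ?_, ?_⟩
        · simp only [Ns, mem_filter_univ]
          refine hK.mem_normalizer hk'.1 hk'.2 ?_
          rwa [show g₀⁻¹ * g * k * (g₀⁻¹ * g)⁻¹ = g₀⁻¹ * (g * k * g⁻¹) * g₀ by group]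
        · exact Prod.ext (by group) (by group)
    · rintro ⟨g, k⟩ hgk
      simp only [Ks, coe_product, Set.mem_prod, coe_filter, mem_univ, true_and,
        Set.mem_ofPred_eq] at hgk
      exact mem_coe.2 (mem_classSet.2 ⟨fun e => hgk.2.2 (conj_eq_one_iff.1 e), g,
        by rw [show g⁻¹ * (g * k * g⁻¹) * g = k by group]; exact hgk.2.1⟩)
  rw [card_product, card_univ, sum_const, smul_eq_mul, hKs] at key
  rw [hNs, Nat.card_eq_fintype_card (α := G), key]

theorem card_centralizer_of_mem_classSet {K : Subgroup G} (hK : CC K) {z : G}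
    (hz : z ∈ classSet K) : Nat.card (centralizer ({z} : Set G)) = Nat.card K := by
  obtain ⟨hz1, g, hg⟩ := mem_classSet.1 hz
  have hk1 : g⁻¹ * z * g ≠ 1 := fun e => hz1 (by
    calc z = g * (g⁻¹ * z * g) * g⁻¹ := by group
      _ = 1 := by rw [e]; group)
  have hz' : z = g * (g⁻¹ * z * g) * g⁻¹ := by group
  have he : centralizer ({z} : Set G) = K.map (MulAut.conj g).toMonoidHom := by
    ext w
    rw [hz', mem_conj_centralizer, hK _ hg hk1, Subgroup.mem_map]
    refine ⟨fun h => ⟨_, h, ?_⟩, ?_⟩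
    · show g * (g⁻¹ * w * g) * g⁻¹ = w
      group
    · rintro ⟨v, hv, rfl⟩
      show g⁻¹ * (g * v * g⁻¹) * g ∈ K
      rwa [show g⁻¹ * (g * v * g⁻¹) * g = v by group]
  rw [he, card_map_of_injective (MulAut.conj g).injective]

/-- Two self-centralizing subgroups with intersecting classes are conjugate. -/
theorem mem_classSet_of_mem {K : Subgroup G} (hK : CC K) {z₁ w : G} (hz₁ : z₁ ≠ 1)
    (hw : w ∈ classSet K)
    (hw₁ : w ∈ classSet (centralizer ({z₁} : Set G))) : z₁ ∈ classSet K := by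
  obtain ⟨hw1, g, hg⟩ := mem_classSet.1 hw
  obtain ⟨-, h, hh⟩ := mem_classSet.1 hw₁
  refine mem_classSet.2 ⟨hz₁, h⁻¹ * g, ?_⟩
  have hk1 : g⁻¹ * w * g ≠ 1 := fun e => hw1 (by
    calc w = g * (g⁻¹ * w * g) * g⁻¹ := by group
      _ = 1 := by rw [e]; group)
  rw [← hK _ hg hk1, mem_centralizer_singleton_iff]
  have hc : Commute (h⁻¹ * w * h) z₁ := mem_centralizer_singleton_iff.1 hh
  have h2 := commute_conj g⁻¹ (commute_conj h hc.symm)
  rw [show g⁻¹ * (h * (h⁻¹ * w * h) * h⁻¹) * g⁻¹⁻¹ = g⁻¹ * w * g by group,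
    show g⁻¹ * (h * z₁ * h⁻¹) * g⁻¹⁻¹ = (h⁻¹ * g)⁻¹ * z₁ * (h⁻¹ * g) by group] at h2
  exact h2.eq

end ClassSet

namespace Setup

variable [IsSimpleGroup G] (L : Setup G) (hna : ¬ IsMulCommutative G) (hS : SN G)

include L hna hS in
/-- An inverted free element: its centralizer is abelian, inverted, self-centralizing and of index
two in its normalizer. -/
theorem real_centralizer {u z : G} (hu : orderOf u = 2) (hz : Free z)
    (huz : u * z * u⁻¹ = z⁻¹) :
    Comm (centralizer ({z} : Set G)) ∧ CC (centralizer ({z} : Set G)) ∧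
      (∀ w ∈ centralizer ({z} : Set G), u * w * u⁻¹ = w⁻¹) ∧
      (∀ w ∈ centralizer ({z} : Set G), w ≠ 1 → Free w) ∧
      Odd (Nat.card (centralizer ({z} : Set G))) ∧
      Nat.card (normalizer (centralizer ({z} : Set G) : Set G)) =
        2 * Nat.card (centralizer ({z} : Set G)) ∧
      ∀ n ∈ normalizer (centralizer ({z} : Set G) : Set G),
        n ∈ centralizer ({z} : Set G) ∨ u⁻¹ * n ∈ centralizer ({z} : Set G) := by
  classical
  haveI : Fact (Nat.Prime 2) := ⟨Nat.prime_two⟩
  set K := centralizer ({z} : Set G) with hKdef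
  have huu : u * u = 1 := by rw [← sq, ← hu, pow_orderOf_eq_one]
  have hui : u⁻¹ = u := inv_eq_of_mul_eq_one_right huu
  -- general fixed-point-free argument
  have inv_of : ∀ v : G, Free v → u * v * u⁻¹ = v⁻¹ →
      Comm (centralizer ({v} : Set G)) ∧ ∀ w ∈ centralizer ({v} : Set G), u * w * u⁻¹ = w⁻¹ := by
    intro v hv huv
    set H := centralizer ({v} : Set G) with hH
    have hmem : ∀ w ∈ H, u * w * u⁻¹ ∈ H := by
      intro w hw
      rw [hH, mem_centralizer_singleton_iff] at hw ⊢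
      have h1 : Commute (u * w * u⁻¹) (u * v * u⁻¹) := commute_conj u hw
      rw [huv] at h1
      exact (Commute.inv_right_iff.1 h1).eq
    let φ : H →* H :=
      { toFun := fun w => ⟨u * w * u⁻¹, hmem w w.2⟩
        map_one' := Subtype.ext (by simp)
        map_mul' := fun a b => Subtype.ext (by simp [mul_assoc]) }
    have hφ : MonoidHom.FixedPointFree φ := by
      intro w hw
      have hw' : u * (w : G) * u⁻¹ = w := congrArg Subtype.val hw
      by_contra hw1
      exact hv.2 u hu (L.commute_trans hna hu (fun e => hw1 (Subtype.ext e))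
        (show (w : G) * u = u * w from (mul_inv_eq_iff_eq_mul.1 hw').symm)
        (mem_centralizer_singleton_iff.1 w.2).symm)
    have hinvol : Function.Involutive φ := fun w => Subtype.ext (by
      show u * (u * (w : G) * u⁻¹) * u⁻¹ = (w : G)
      rw [show u * (u * (w : G) * u⁻¹) * u⁻¹ = (u * u) * (w : G) * (u * u)⁻¹ by group, huu]
      group)
    exact ⟨fun a ha b hb => congrArg Subtype.val
      (hφ.commute_all_of_involutive hinvol ⟨a, ha⟩ ⟨b, hb⟩).eq,
      fun w hw => congrArg Subtype.val (congrFun (hφ.coe_eq_inv_of_involutive hinvol) ⟨w, hw⟩)⟩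
  obtain ⟨hc, hinv⟩ := inv_of z hz huz
  have hfree : ∀ w ∈ K, w ≠ 1 → Free w := fun w hw hw1 => ⟨hw1, fun t ht hwt =>
    hz.2 t ht (L.commute_trans hna ht hw1 hwt (mem_centralizer_singleton_iff.1 hw).symm)⟩
  have hCC : CC K := by
    intro w hw hw1
    refine le_antisymm (fun g hg => mem_centralizer_singleton_iff.2 ?_)
      (fun g hg => mem_centralizer_singleton_iff.2 (hc g hg w hw))
    exact (inv_of w (hfree w hw hw1) (hinv w hw)).1 g hg z (mem_centralizer_singleton_iff.2
      (mem_centralizer_singleton_iff.1 hw).symm)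
  have hodd : Odd (Nat.card K) := by
    rw [← Nat.not_even_iff_odd]
    intro he
    obtain ⟨t, ht⟩ := exists_prime_orderOf_dvd_card' (G := K) 2 (even_iff_two_dvd.1 he)
    exact hz.2 t (by rw [orderOf_coe, ht]) (mem_centralizer_singleton_iff.1 t.2).symm
  have hzK : z ∈ K := mem_centralizer_singleton_iff.2 rfl
  have hK1 : K ≠ ⊥ := fun h => hz.1 (by rw [h, mem_bot] at hzK; exact hzK)
  haveI := isSolvable_normalizer hS hc hK1
  have huN : u ∈ normalizer (K : Set G) := hCC.mem_normalizer hzK hz.1 (by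
    rw [huz]; exact inv_mem hzK)
  have hzodd : Odd (orderOf z) := by
    refine hodd.of_dvd_nat ?_
    have h := orderOf_dvd_natCard (⟨z, hzK⟩ : K)
    rwa [Subgroup.orderOf_mk] at h
  have hnc : ¬ Commute z u := hz.2 u hu
  have hnn : ¬ Group.IsNilpotent (normalizer (K : Set G)) := by
    intro hn
    rcases nilpotent_cases hS (normalizer (K : Set G)) with hc' | ⟨r, hr, hrg⟩
    · exact hnc (hc' z (le_normalizer hzK) u huN)
    · obtain ⟨j, hj⟩ := hrg ⟨u, huN⟩
      obtain ⟨l, hl⟩ := hrg ⟨z, le_normalizer hzK⟩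
      have hr2 : r = 2 := by
        have h1 : orderOf u ∣ r ^ j := orderOf_dvd_of_pow_eq_one (by simpa using congrArg Subtype.val hj)
        rw [hu] at h1
        exact ((Nat.prime_dvd_prime_iff_eq Nat.prime_two hr).1 (Nat.prime_two.dvd_of_dvd_pow h1)).symm
      subst hr2
      refine hz.1 (orderOf_eq_one_iff.1 (Nat.eq_one_of_dvd_coprimes
        ((Nat.coprime_two_left.2 hzodd).pow_left l) ?_ dvd_rfl))
      exact orderOf_dvd_of_pow_eq_one (by simpa using congrArg Subtype.val hl)
  obtain ⟨d⟩ := exists_nnData hS hnn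
  have hx := orderOf_x hna hS hnn d
  have hp2 : d.p = 2 := by
    by_contra hp2
    have huA : u ∈ d.A := d.mem_of_coprime hx huN
      (by rw [hu]; exact (Nat.coprime_primes Nat.prime_two d.hp).2 (Ne.symm hp2))
    have h1 : u * (z * u⁻¹ * z⁻¹) ∈ d.A := mul_mem huA
      ((Subgroup.mem_normalizer_iff.1 (d.le_normalizer' (le_normalizer hzK)) _).1 (inv_mem huA))
    rw [show u * (z * u⁻¹ * z⁻¹) = (u * z * u⁻¹) * z⁻¹ by group, huz] at h1
    have h2 : z ^ 2 ∈ d.A := by
      have := inv_mem h1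
      rwa [mul_inv_rev, inv_inv, ← sq] at this
    have hcu : Commute (z ^ 2) u := d.A_comm _ h2 u huA
    obtain ⟨j, hj⟩ := exists_pow_eq_self_of_coprime (x := z) (n := 2)
      (Nat.coprime_two_left.2 hzodd)
    exact hnc (hj ▸ hcu.pow_left j)
  have hcopK : ∀ w ∈ K, (orderOf w).Coprime d.p := by
    intro w hw
    rw [hp2]
    refine Nat.coprime_two_right.2 (hodd.of_dvd_nat ?_)
    have h := orderOf_dvd_natCard (⟨w, hw⟩ : K)
    rwa [Subgroup.orderOf_mk] at h
  have hKA : K ≤ d.A := fun w hw => d.mem_of_coprime hx (le_normalizer hw) (hcopK w hw)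
  have hAK : d.A ≤ K := fun w hw => mem_centralizer_singleton_iff.2 (d.A_comm w hw z (hKA hzK))
  have hAeq : d.A = K := le_antisymm hAK hKA
  refine ⟨hc, hCC, hinv, hfree, hodd, by rw [d.card_eq' hx, hp2, hAeq], fun n hn => ?_⟩
  have hzp : ∀ g ∈ normalizer (K : Set G), g ∈ K ∨ ∃ a ∈ K, g = d.x * a := by
    intro g hg
    obtain ⟨i, a, ha, rfl⟩ := d.decomp g hg
    rw [hAeq] at ha
    rcases Int.emod_two_eq_zero_or_one i with h0 | h1
    · left
      have : d.x ^ i = 1 := by
        obtain ⟨j, rfl⟩ : (2 : ℤ) ∣ i := Int.dvd_of_emod_eq_zero h0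
        rw [zpow_mul, show ((2 : ℤ)) = ((d.p : ℤ)) by rw [hp2]; rfl, zpow_natCast,
          show d.x ^ d.p = 1 by rw [← hx, pow_orderOf_eq_one], one_zpow]
      rw [this, one_mul]
      exact ha
    · refine Or.inr ⟨a, ha, ?_⟩
      congr 1
      rw [show i = 1 + 2 * (i / 2) by omega, zpow_add, zpow_one, zpow_mul,
        show ((2 : ℤ)) = ((d.p : ℤ)) by rw [hp2]; rfl, zpow_natCast,
        show d.x ^ d.p = 1 by rw [← hx, pow_orderOf_eq_one], one_zpow, mul_one]
  rcases hzp n hn with h | ⟨a, ha, rfl⟩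
  · exact Or.inl h
  rcases hzp u huN with h | ⟨a', ha', e⟩
  · exact absurd (mem_centralizer_singleton_iff.1 h).symm hnc
  · right
    rw [e, show (d.x * a')⁻¹ * (d.x * a) = a'⁻¹ * a by group]
    exact mul_mem (inv_mem ha') ha

end Setup

end CfsgLib.FGS.SelfNormSimple
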