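import Cfsg.Agent.Lib.FGS.SelfNormSimple.Counting
import Cfsg.Agent.Lib.SmallGroups.SharpThreeField
import Cfsg.Agent.Lib.Classical.Dickson.PSLMap
import Cfsg.Agent.Lib.Classical.Dickson.MinIndex

/-!
The simple groups in which every nonabelian subgroup is self-normalizing are `PSL₂(2ⁿ)` with
`2ⁿ - 1` prime: identification through a sharply triply transitive action.
-/

set_option autoImplicit false
set_option linter.unusedSectionVars false
set_option linter.style.haveILetI false

namespace CfsgLib.FGS.SelfNormSimple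

open Subgroup Matrix

variable {G : Type*} [Group G] [Finite G] [IsSimpleGroup G]

namespace Setup

variable (L : Setup G) (hna : ¬ IsMulCommutative G) (hS : SN G)

include L hna hS in
theorem isSharpThree {u c : G} (hu : orderOf u = 2) (huN : u ∉ L.N)
    (hc : u • (QuotientGroup.mk c : G ⧸ L.N) = QuotientGroup.mk c) :
    CfsgLib.SmallGroups.SharplyThreeTransitive.IsSharpThree G (G ⧸ L.N) := by
  classical
  obtain ⟨ha, hv⟩ := L.main_count hna hS
  obtain ⟨y, hy, hy1⟩ := L.exists_D hna hu huN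
  set o : G ⧸ L.N := QuotientGroup.mk (1 : G) with hodef
  set w₀ : G ⧸ L.N := QuotientGroup.mk u with hw₀def
  set c₀ : G ⧸ L.N := QuotientGroup.mk c with hc₀def
  have hidx := L.index_eq hna hu huN hy hy1
  have hF2 : Nat.card {w : G ⧸ L.N // y • w = w} = 2 := by
    rw [hv, ha] at hidx
    have h1 : (L.p + 1) * 1 = (L.p + 1) * (Nat.card {w : G ⧸ L.N // y • w = w} - 1) := by omega
    have := Nat.eq_of_mul_eq_mul_left (Nat.succ_pos _) h1
    omega
  have ho : y • o = o := (L.smul_mk_eq_iff).2 (by simpa using hy.1)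
  have hw₀ : y • w₀ = w₀ := ((L.mem_D_iff_fix hu).1 hy).2
  have how : o ≠ w₀ := fun e => huN (by
    have := QuotientGroup.eq.1 e
    rwa [inv_one, one_mul] at this)
  have honly : ∀ w : G ⧸ L.N, y • w = w → w = o ∨ w = w₀ := by
    intro w hw
    by_contra! h
    haveI := Fintype.ofFinite (G ⧸ L.N)
    rw [Nat.card_eq_fintype_card, Fintype.card_subtype] at hF2
    have hsub : ({o, w₀, w} : Finset (G ⧸ L.N)) ⊆ Finset.univ.filter (fun w : G ⧸ L.N => y • w = w) := by
      intro z hz
      simp only [Finset.mem_insert, Finset.mem_singleton] at hz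
      rw [Finset.mem_filter_univ]
      rcases hz with rfl | rfl | rfl
      exacts [ho, hw₀, hw]
    have h3 : ({o, w₀, w} : Finset (G ⧸ L.N)).card = 3 :=
      Finset.card_eq_three.2 ⟨o, w₀, w, how, h.1.symm, h.2.symm, rfl⟩
    have := Finset.card_le_card hsub
    omega
  have hfixD : ∀ d ∈ L.D u, d • o = o ∧ d • w₀ = w₀ := fun d hd =>
    ⟨(L.smul_mk_eq_iff).2 (by simpa using hd.1), ((L.mem_D_iff_fix hu).1 hd).2⟩
  have hstabD : ∀ g : G, g • o = o → g • w₀ = w₀ → g ∈ L.D u := by
    intro g hg1 hg2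
    have : g ∈ L.N := by simpa using (L.smul_mk_eq_iff).1 hg1
    exact (L.mem_D_iff_fix hu).2 ⟨this, hg2⟩
  have hfree : ∀ d ∈ L.D u, d ≠ 1 → ∀ w : G ⧸ L.N, d • w = w → w = o ∨ w = w₀ := by
    intro d hd hd1 w hw
    refine honly w ?_
    have hyd : y ∈ zpowers d := by rw [← L.D_eq_zpowers hna hu huN hd hd1]; exact hy
    exact (zpowers_le.2 hw : zpowers d ≤ MulAction.stabilizer G w) hyd
  have huo : u • o = w₀ := by
    rw [hodef, hw₀def, MulAction.Quotient.smul_mk, smul_eq_mul, mul_one]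
  have huw : u • w₀ = o := by
    rw [← huo, ← mul_smul, show u * u = 1 by rw [← sq, ← hu, pow_orderOf_eq_one], one_smul]
  have hco : c₀ ≠ o := fun e => how (by rw [← huo, ← e, hc])
  have hcw : c₀ ≠ w₀ := fun e => how (by rw [← huw, ← e, hc])
  -- `D` is transitive on the remaining points
  have hDtrans : ∀ w : G ⧸ L.N, w ≠ o → w ≠ w₀ → ∃ d ∈ L.D u, d • c₀ = w := by
    intro w hwo hww
    haveI := Fintype.ofFinite (G ⧸ L.N)
    haveI := Fintype.ofFinite G
    let T : Finset (G ⧸ L.N) := (Finset.univ.erase o).erase w₀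
    let Ds : Finset G := {d : G | d ∈ L.D u}
    have hsub : Ds.image (fun d => d • c₀) ⊆ T := by
      intro z hz
      obtain ⟨d, hd, rfl⟩ := Finset.mem_image.1 hz
      simp only [Ds, Finset.mem_filter_univ] at hd
      refine Finset.mem_erase.2 ⟨fun e => hcw ?_, Finset.mem_erase.2 ⟨fun e => hco ?_, Finset.mem_univ _⟩⟩
      · exact MulAction.injective d (e.trans (hfixD d hd).2.symm)
      · exact MulAction.injective d (e.trans (hfixD d hd).1.symm)
    have hinj : Set.InjOn (fun d => d • c₀) (Ds : Set G) := by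
      intro d hd d' hd' e
      simp only [Ds, Finset.coe_filter, Finset.mem_univ, true_and, Set.mem_ofPred_eq] at hd hd'
      by_contra hne
      have h1 : (d'⁻¹ * d) • c₀ = c₀ := by
        rw [mul_smul, show d • c₀ = d' • c₀ from e, inv_smul_smul]
      rcases hfree _ (mul_mem (inv_mem hd') hd)
        (fun e' => hne (inv_mul_eq_one.1 e').symm) c₀ h1 with h | h
      exacts [hco h, hcw h]
    have hcard : (Ds.image (fun d => d • c₀)).card = T.card := by
      rw [Finset.card_image_of_injOn hinj]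
      have h1 : Ds.card = Nat.card (L.D u) := by
        rw [Nat.card_eq_fintype_card]
        exact (Fintype.card_of_subtype _ (by simp [Ds])).symm
      rw [h1, L.card_D hna hu huN, Finset.card_erase_of_mem (Finset.mem_erase.2 ⟨how.symm, Finset.mem_univ _⟩),
        Finset.card_erase_of_mem (Finset.mem_univ _), Finset.card_univ, ← Nat.card_eq_fintype_card,
        ← index_eq_card, hv]
      omega
    have he := Finset.eq_of_subset_of_card_le hsub hcard.ge
    have hwT : w ∈ T := Finset.mem_erase.2 ⟨hww, Finset.mem_erase.2 ⟨hwo, Finset.mem_univ _⟩⟩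
    rw [← he] at hwT
    obtain ⟨d, hd, e⟩ := Finset.mem_image.1 hwT
    simp only [Ds, Finset.mem_filter_univ] at hd
    exact ⟨d, hd, e⟩
  -- double transitivity
  have h2 : ∀ a b : G ⧸ L.N, a ≠ b → ∃ g : G, g • o = a ∧ g • w₀ = b := by
    intro a b hab
    obtain ⟨g, rfl⟩ := QuotientGroup.mk_surjective a
    obtain ⟨k, hk⟩ := QuotientGroup.mk_surjective (g⁻¹ • b)
    have hkN : k ∉ L.N := fun hkN => hab (by
      have h1 : g⁻¹ • b = o := by
        rw [← hk]
        exact QuotientGroup.eq.2 (by rw [mul_one]; exact inv_mem hkN)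
      rw [inv_smul_eq_iff] at h1
      rw [h1, hodef, MulAction.Quotient.smul_mk, smul_eq_mul, mul_one])
    obtain ⟨t, ht, htN, hkt⟩ := L.exists_involution_coset hna hkN
    obtain ⟨d, hd, hd1⟩ := L.exists_D hna ht htN
    obtain ⟨b', hb', e, he, he1, hde⟩ :=
      L.exists_conj_D hna hu huN hd.1 (L.not_mem_B htN hd hd1)
    have hfix : e • (b'⁻¹ • (QuotientGroup.mk t : G ⧸ L.N)) = b'⁻¹ • QuotientGroup.mk t := by
      rw [← mul_smul, show e * b'⁻¹ = b'⁻¹ * d by rw [hde]; group, mul_smul,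
        ((L.mem_D_iff_fix ht).1 hd).2]
    have hbo : b' • o = o := (L.smul_mk_eq_iff).2 (by simpa using L.B_le hb')
    rcases hfree e he he1 _ hfix with h | h
    · refine absurd ?_ htN
      rw [inv_smul_eq_iff, hbo] at h
      have := QuotientGroup.eq.1 h.symm
      rwa [inv_one, one_mul] at this
    · refine ⟨g * b', ?_, ?_⟩
      · rw [mul_smul, hbo, hodef, MulAction.Quotient.smul_mk, smul_eq_mul, mul_one]
      · rw [inv_smul_eq_iff] at h
        rw [mul_smul, ← h, show (QuotientGroup.mk t : G ⧸ L.N) = QuotientGroup.mk k from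
          (QuotientGroup.eq.2 hkt).symm, hk, smul_inv_smul]
  refine ⟨fun a b z a' b' z' hab haz hbz hab' haz' hbz' => ?_,
    fun g a b z hab haz hbz hga hgb hgz => ?_⟩
  · have key : ∀ a b z : G ⧸ L.N, a ≠ b → a ≠ z → b ≠ z →
        ∃ g : G, g • o = a ∧ g • w₀ = b ∧ g • c₀ = z := by
      intro a b z hab haz hbz
      obtain ⟨g, hg1, hg2⟩ := h2 a b hab
      obtain ⟨d, hd, hdc⟩ := hDtrans (g⁻¹ • z) (fun e => haz (by rw [← hg1, ← e, smul_inv_smul]))
        (fun e => hbz (by rw [← hg2, ← e, smul_inv_smul]))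
      exact ⟨g * d, by rw [mul_smul, (hfixD d hd).1, hg1], by rw [mul_smul, (hfixD d hd).2, hg2],
        by rw [mul_smul, hdc, smul_inv_smul]⟩
    obtain ⟨g, hg1, hg2, hg3⟩ := key a b z hab haz hbz
    obtain ⟨k, hk1, hk2, hk3⟩ := key a' b' z' hab' haz' hbz'
    exact ⟨k * g⁻¹, by rw [mul_smul, ← hg1, inv_smul_smul, hk1],
      by rw [mul_smul, ← hg2, inv_smul_smul, hk2], by rw [mul_smul, ← hg3, inv_smul_smul, hk3]⟩
  · obtain ⟨h, hh1, hh2⟩ := h2 a b hab
    by_contra hg1
    have hmem : h⁻¹ * g * h ∈ L.D u := hstabD _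
      (by rw [mul_smul, mul_smul, hh1, hga, ← hh1, inv_smul_smul])
      (by rw [mul_smul, mul_smul, hh2, hgb, ← hh2, inv_smul_smul])
    have hne : h⁻¹ * g * h ≠ 1 := fun e => hg1 (by
      calc g = h * (h⁻¹ * g * h) * h⁻¹ := by group
        _ = 1 := by rw [e]; group)
    rcases hfree _ hmem hne (h⁻¹ • z) (by rw [mul_smul, mul_smul, smul_inv_smul, hgz]) with e | e
    · exact haz (by rw [← hh1, ← e, smul_inv_smul])
    · exact hbz (by rw [← hh2, ← e, smul_inv_smul])

end Setup

/-- The forward direction. -/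
theorem exists_psl (hna : ¬ IsMulCommutative G) (hS : SN G) :
    ∃ n : ℕ, 2 ≤ n ∧ (2 ^ n - 1).Prime ∧
      Nonempty (G ≃* Matrix.ProjectiveSpecialLinearGroup (Fin 2) (GaloisField 2 n)) := by
  classical
  haveI : Fact (Nat.Prime 2) := ⟨Nat.prime_two⟩
  obtain ⟨L⟩ := exists_setup hna hS
  obtain ⟨ha, hv⟩ := L.main_count hna hS
  have hp3 : 3 ≤ L.p := by
    have := L.hp.two_le
    have := L.p_ne_two
    omega
  -- `B` is a 2-group
  have hinv : ∀ b ∈ L.B, b ^ 2 = 1 := by
    haveI := Fintype.ofFinite G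
    let I : Finset G := {t : G | orderOf t = 2 ∧ t ∈ L.B}
    let Bs : Finset G := {t : G | t ∈ L.B}
    have h1 : I.card = L.p := by
      rw [← L.card_involutions_B hna, Nat.card_eq_fintype_card, Fintype.card_subtype]
    have h2 : Bs.card = L.p + 1 := by
      rw [← ha, Nat.card_eq_fintype_card]
      exact (Fintype.card_of_subtype _ (by simp [Bs])).symm
    have hone : (1 : G) ∉ I := by simp [I]
    have he : insert 1 I = Bs := by
      refine Finset.eq_of_subset_of_card_le (fun t ht => ?_)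
        (by rw [Finset.card_insert_of_notMem hone, h1, h2])
      simp only [I, Bs, Finset.mem_insert, Finset.mem_filter_univ] at ht ⊢
      rcases ht with rfl | ht
      · exact one_mem _
      · exact ht.2
    intro b hb
    have hbB : b ∈ Bs := by simp [Bs, hb]
    rw [← he] at hbB
    simp only [I, Finset.mem_insert, Finset.mem_filter_univ] at hbB
    rcases hbB with rfl | hbB
    · exact one_pow 2
    · rw [← hbB.1, pow_orderOf_eq_one]
  have hB2 : IsPGroup 2 L.B := fun b => ⟨1, Subtype.ext (by simpa using hinv b b.2)⟩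
  obtain ⟨n, hn⟩ := hB2.exists_card_eq
  rw [ha] at hn
  have hn2 : 2 ≤ n := by
    by_contra h
    interval_cases n <;> omega
  refine ⟨n, hn2, by rw [← hn, Nat.add_sub_cancel]; exact L.hp, ?_⟩
  obtain ⟨u, hu, huN⟩ := L.exists_involution_not_mem hna
  obtain ⟨g, hg⟩ := L.involution_conj hna hu
  set o : G ⧸ L.N := QuotientGroup.mk (1 : G) with hodef
  set w₀ : G ⧸ L.N := QuotientGroup.mk u with hw₀def
  set c₀ : G ⧸ L.N := QuotientGroup.mk g with hc₀def
  have hc : u • c₀ = c₀ := (L.smul_mk_eq_iff).2 (L.B_le hg)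
  have hsharp := L.isSharpThree hna hS hu huN hc
  have huo : u • o = w₀ := by
    rw [hodef, hw₀def, MulAction.Quotient.smul_mk, smul_eq_mul, mul_one]
  have huw : u • w₀ = o := by
    rw [← huo, ← mul_smul, show u * u = 1 by rw [← sq, ← hu, pow_orderOf_eq_one], one_smul]
  have how : o ≠ w₀ := fun e => huN (by
    have := QuotientGroup.eq.1 e
    rwa [inv_one, one_mul] at this)
  have hoc : o ≠ c₀ := fun e => how (by rw [← huo, e, hc])
  have hwc : w₀ ≠ c₀ := fun e => how (by rw [← huw, e, hc])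
  haveI : FaithfulSMul G (G ⧸ L.N) := by
    refine ⟨fun {a b} hab => ?_⟩
    have hk : (MulAction.toPermHom G (G ⧸ L.N)).ker = ⊥ := by
      rcases (MonoidHom.normal_ker (MulAction.toPermHom G (G ⧸ L.N))).eq_bot_or_eq_top with h | h
      · exact h
      · exfalso
        have hu' : u ∈ (MulAction.toPermHom G (G ⧸ L.N)).ker := h ▸ mem_top u
        exact how (huo ▸ (DFunLike.congr_fun hu' o).symm)
    exact (MonoidHom.ker_eq_bot_iff _).1 hk (Equiv.ext hab)
  have hstab : ∀ h : G, h • o = o → h • w₀ = w₀ → h ∈ L.D u := fun h h1 h2 =>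
    (L.mem_D_iff_fix hu).2 ⟨by simpa using (L.smul_mk_eq_iff).1 h1, h2⟩
  have h4 : 4 ≤ Nat.card (G ⧸ L.N) := by rw [← index_eq_card, hv]; omega
  obtain ⟨F, _, _, hF, ⟨e⟩⟩ := CfsgLib.SmallGroups.SharpThreeField.nonempty_pgl hsharp h4 how hoc hwc
    (fun a b ha1 ha2 hb1 hb2 => L.D_comm hna hu huN a (hstab a ha1 ha2) b (hstab b hb1 hb2))
    huo huw hc (fun h h1 h2 => L.D_inverted hna hu huN (hstab h h1 h2))
  have hFq : Fintype.card F = 2 ^ n := by
    rw [← index_eq_card, hv] at hF
    omega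
  haveI := Fintype.ofFinite (GaloisField 2 n)
  have hKq : Fintype.card (GaloisField 2 n) = 2 ^ n := by
    rw [← Nat.card_eq_fintype_card, GaloisField.card 2 n (by omega)]
  let ε : GaloisField 2 n ≃+* F := FiniteField.ringEquivOfCardEq (hKq.trans hFq.symm)
  haveI : Finite (Matrix.ProjGenLinGroup (Fin 2) F) := Finite.of_equiv G e.toEquiv
  have hbij : Function.Bijective
      (Matrix.ProjectiveSpecialLinearGroup.toPGL (n := Fin 2) (R := F)) := by
    refine (Nat.bijective_iff_injective_and_card _).2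
      ⟨Matrix.ProjectiveSpecialLinearGroup.toPGL_injective, ?_⟩
    have h := CfsgLib.Classical.Dickson.gcd_mul_card_PSL (F := F) hFq
    have hgcd : Nat.gcd 2 (2 ^ n - 1) = 1 := by
      refine Nat.prime_two.coprime_iff_not_dvd.2 ?_
      have : 2 ∣ 2 ^ n := dvd_pow_self 2 (by omega)
      have : 0 < 2 ^ n := Nat.two_pow_pos n
      omega
    rw [hgcd, one_mul] at h
    rw [h, CfsgLib.Classical.Dickson.card_pgl (F := F) hFq]
  exact ⟨e.trans ((MulEquiv.ofBijective _ hbij).symm.trans
    (MulEquiv.ofBijective (CfsgLib.Classical.Dickson.pslMap (ε : GaloisField 2 n →+* F))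
      ⟨CfsgLib.Classical.Dickson.pslMap_injective _,
        CfsgLib.Classical.Dickson.pslMap_surjective ε⟩).symm)⟩

end CfsgLib.FGS.SelfNormSimple
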